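import Mathlib

/-!
Counting orbits of an element of prime order, and the resulting bound on fixed subspaces of
a permuted family of subspaces.
-/

set_option autoImplicit false

namespace Cfsg.Agent.FixedHalf

/-- Orbit representatives of a permutation of prime order. -/
theorem exists_reps {I : Type*} [Finite I] {p : ℕ} (hp : p.Prime) (σ : Equiv.Perm I) (hσ : σ ^ p = 1) :
    ∃ S : Finset I, (∀ i, ∃ s ∈ S, ∃ n : ℕ, (σ ^ n) s = i) ∧
      p * S.card ≤ Nat.card I + (p - 1) * Nat.card {i : I // σ i = i} := by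
  classical
  haveI := Fintype.ofFinite I
  let O := MulAction.orbitRel.Quotient (Subgroup.zpowers σ) I
  haveI : Fintype O := Fintype.ofFinite O
  let out : O → I := fun o => Quotient.out o
  have hinj : Function.Injective out := fun a b h => by
    rw [← Quotient.out_eq a, ← Quotient.out_eq b]
    exact congrArg (Quotient.mk _) h
  refine ⟨Finset.univ.image out, fun i => ?_, ?_⟩
  · refine ⟨out (Quotient.mk _ i), Finset.mem_image_of_mem _ (Finset.mem_univ _), ?_⟩
    have h : MulAction.orbitRel (Subgroup.zpowers σ) I i (out (Quotient.mk _ i)) :=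
      Setoid.symm' _ (Quotient.mk_out (s := MulAction.orbitRel (Subgroup.zpowers σ) I) i)
    rw [MulAction.orbitRel_apply] at h
    obtain ⟨⟨a, ha⟩, hb⟩ := h
    obtain ⟨n, rfl⟩ := mem_powers_iff_mem_zpowers.2 ha
    exact ⟨n, hb⟩
  · rw [Finset.card_image_of_injective _ hinj, Finset.card_univ]
    have hsum : Nat.card I = ∑ o : O, Nat.card (MulAction.orbit (Subgroup.zpowers σ) (out o)) := by
      rw [Nat.card_congr (MulAction.selfEquivSigmaOrbits (Subgroup.zpowers σ) I), Nat.card_sigma]
    have hp' : IsPGroup p ↥(Subgroup.zpowers σ) := by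
      rintro ⟨a, ha⟩
      obtain ⟨n, rfl⟩ := mem_powers_iff_mem_zpowers.2 ha
      refine ⟨1, Subtype.ext ?_⟩
      change (σ ^ n) ^ p ^ 1 = 1
      rw [pow_one, ← pow_mul, mul_comm, pow_mul, hσ, one_pow]
    have hstep : ∀ o : O, p ≤ Nat.card (MulAction.orbit (Subgroup.zpowers σ) (out o)) +
        (p - 1) * (if σ (out o) = out o then 1 else 0) := by
      intro o
      haveI := Fact.mk hp
      obtain ⟨n, hn⟩ := hp'.card_orbit (out o)
      rw [hn]
      rcases n with _ | n
      · rw [pow_zero] at hn
        haveI : Subsingleton (MulAction.orbit (Subgroup.zpowers σ) (out o)) :=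
          (Nat.card_eq_one_iff_unique.1 hn).1
        have := congrArg Subtype.val (Subsingleton.elim
          (⟨_, MulAction.mem_orbit (out o) (⟨σ, Subgroup.mem_zpowers σ⟩ : ↥(Subgroup.zpowers σ))⟩ :
            MulAction.orbit (Subgroup.zpowers σ) (out o)) ⟨_, MulAction.mem_orbit_self _⟩)
        rw [if_pos (show σ (out o) = out o from this), pow_zero]
        omega
      · exact (Nat.le_self_pow n.succ_ne_zero p).trans (Nat.le_add_right _ _)
    calc p * Fintype.card O = ∑ _o : O, p := by rw [Finset.sum_const, Finset.card_univ, smul_eq_mul, mul_comm]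
      _ ≤ _ := Finset.sum_le_sum fun o _ => hstep o
      _ = Nat.card I + (p - 1) * (Finset.univ.filter fun o => σ (out o) = out o).card := by
          rw [Finset.sum_add_distrib, ← hsum, ← Finset.mul_sum, Finset.sum_boole, Nat.cast_id]
      _ ≤ _ := by
          refine Nat.add_le_add_left (Nat.mul_le_mul_left _ ?_) _
          rw [← Finset.card_image_of_injective _ hinj, Nat.card_eq_fintype_card, Fintype.card_subtype]
          exact Finset.card_le_card fun i hi => by
            obtain ⟨o, ho, rfl⟩ := Finset.mem_image.1 hi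
            simpa using ho

/-- A subspace determined by its projections on orbit representatives is small. -/
theorem finrank_le_of_reps {k : Type*} [Field k] {V W : Type*} [AddCommGroup V] [Module k V]
    [AddCommGroup W] [Module k W] [FiniteDimensional k W] {I : Type*} (σ : Equiv.Perm I)
    (P : I → V →ₗ[k] W) (Wi : I → Submodule k W) (b : ℕ) (hWi : ∀ i, Module.finrank k (Wi i) ≤ b)
    (hP : ∀ i v, P i v ∈ Wi i) (U : Submodule k V) (S : Finset I)
    (hS : ∀ i, ∃ s ∈ S, ∃ n : ℕ, (σ ^ n) s = i) (hsep : ∀ u ∈ U, (∀ i, P i u = 0) → u = 0)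
    (hstep : ∀ u ∈ U, ∀ i, P i u = 0 → P (σ i) u = 0) :
    Module.finrank k U ≤ S.card * b := by
  classical
  let f : ↥U →ₗ[k] (∀ s : ↥S, ↥(Wi s.1)) :=
    LinearMap.pi fun s => ((P s.1).comp U.subtype).codRestrict (Wi s.1) fun u => hP _ _
  have hf : Function.Injective f := by
    rw [injective_iff_map_eq_zero]
    intro u hu
    have hu' : ∀ s ∈ S, P s u = 0 := fun s hs => congrArg Subtype.val (congrFun hu ⟨s, hs⟩)
    refine Subtype.ext (hsep u u.2 fun i => ?_)
    obtain ⟨s, hs, n, rfl⟩ := hS i
    induction n with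
    | zero => simpa using hu' s hs
    | succ n ih => rw [pow_succ', Equiv.Perm.mul_apply]; exact hstep u u.2 _ ih
  refine (LinearMap.finrank_le_finrank_of_injective hf).trans ?_
  rw [Module.finrank_pi_fintype]
  calc ∑ s : ↥S, Module.finrank k ↥(Wi s.1) ≤ ∑ _s : ↥S, b := Finset.sum_le_sum fun s _ => hWi _
    _ = _ := by rw [Finset.sum_const, Finset.card_univ, Fintype.card_coe, smul_eq_mul]

/-- Congruent prime powers are far apart. -/
theorem pow_ratio {p r a b : ℕ} (hp : p.Prime) (hr : r.Prime) (hba : b < a)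
    (hcong : r ^ a ≡ r ^ b [MOD p]) : r = p ∨ (p ∣ r ^ (a - b) - 1) := by
  by_cases h : r = p
  · exact Or.inl h
  right
  have hd : p ∣ r ^ a - r ^ b :=
    (Nat.modEq_iff_dvd' (Nat.pow_le_pow_right hr.pos hba.le)).1 hcong.symm
  rw [show r ^ a - r ^ b = r ^ b * (r ^ (a - b) - 1) by
    rw [Nat.mul_sub, mul_one, ← pow_add, Nat.add_sub_cancel' hba.le]] at hd
  exact (Nat.Coprime.pow_right b ((Nat.coprime_primes hp hr).2 (Ne.symm h))).dvd_of_dvd_mul_left hd

theorem pow_ratio_five {p r a b : ℕ} (hp : p.Prime) (hp3 : 3 < p) (hr : r.Prime) (hba : b < a)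
    (hcong : r ^ a ≡ r ^ b [MOD p]) : 5 * r ^ b ≤ r ^ a := by
  have hp5 : 5 ≤ p := by
    rcases (show p = 4 ∨ 5 ≤ p by omega) with rfl | h
    · exact absurd hp (by decide)
    · exact h
  rw [← Nat.sub_add_cancel hba.le, pow_add]
  refine Nat.mul_le_mul_right _ ?_
  rcases pow_ratio hp hr hba hcong with rfl | hd
  · exact hp5.trans (Nat.le_self_pow (by omega) _)
  · have h2 : 1 < r ^ (a - b) := Nat.one_lt_pow (by omega) hr.one_lt
    have := Nat.le_of_dvd (by omega) hd
    omega

theorem pow_ratio_sq {p r a b : ℕ} (hp : p.Prime) (hp3 : 3 < p) (hr : r.Prime) (hba : b + 2 ≤ a)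
    (hcong : r ^ a ≡ r ^ b [MOD p]) : 4 * (r ^ a + (p - 1) * r ^ b) ≤ p * r ^ a := by
  have hp5 : 5 ≤ p := by
    rcases (show p = 4 ∨ 5 ≤ p by omega) with rfl | h
    · exact absurd hp (by decide)
    · exact h
  have key : (p - 4) * (r ^ (a - b) - 4) ≥ 12 := by
    have hsq : r ^ 2 ≤ r ^ (a - b) := Nat.pow_le_pow_right hr.pos (by omega)
    have h4 : 4 ≤ r ^ (a - b) := le_trans (by nlinarith [hr.two_le]) hsq
    rcases pow_ratio hp hr (by omega) hcong with rfl | hd
    · have : r ≠ 6 := by rintro rfl; exact absurd hr (by decide)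
      have h25 : 25 ≤ r ^ (a - b) := le_trans (by nlinarith) hsq
      calc 12 ≤ 1 * (r ^ (a - b) - 4) := by omega
        _ ≤ _ := Nat.mul_le_mul_right _ (by omega)
    · rcases Nat.lt_or_ge p 7 with hp7 | hp7
      · have hp5' : p = 5 := by
          rcases (show p = 5 ∨ p = 6 by omega) with h | h
          · exact h
          · subst h; exact absurd hp (by decide)
        subst hp5'
        have h16 : 16 ≤ r ^ (a - b) := by
          by_contra hcon
          push Not at hcon
          have hr3 : r < 4 := by nlinarith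
          have hab4 : a - b < 4 := by
            by_contra hab
            have := Nat.pow_le_pow_right hr.pos (show 4 ≤ a - b by omega)
            have h2 := Nat.pow_le_pow_left hr.two_le 4
            omega
          have hrv : r = 2 ∨ r = 3 := by have := hr.two_le; omega
          have hab2 : a - b = 2 ∨ a - b = 3 := by omega
          rcases hrv with rfl | rfl <;> rcases hab2 with h | h <;> rw [h] at hd hcon <;> omega
        omega
      · have h8 : 8 ≤ r ^ (a - b) := by
          have := Nat.le_of_dvd (by omega) hd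
          omega
        calc 12 ≤ 3 * (r ^ (a - b) - 4) := by omega
          _ ≤ _ := Nat.mul_le_mul_right _ (by omega)
  rw [← Nat.sub_add_cancel (show b ≤ a by omega), pow_add]
  generalize r ^ (a - b) = i at key
  obtain ⟨p', rfl⟩ : ∃ p', p = p' + 4 := ⟨p - 4, by omega⟩
  obtain ⟨i', rfl⟩ : ∃ i', i = i' + 4 := ⟨i - 4, by
    have : i - 4 ≠ 0 := fun h => by rw [h, mul_zero] at key; omega
    omega⟩
  simp only [Nat.add_sub_cancel] at key
  rw [show p' + 4 - 1 = p' + 3 from rfl]
  calc 4 * ((i' + 4) * r ^ b + (p' + 3) * r ^ b) = (4 * (i' + p' + 7)) * r ^ b := by ring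
    _ ≤ ((p' + 4) * (i' + 4)) * r ^ b := Nat.mul_le_mul_right _ (by nlinarith)
    _ = _ := by ring

end Cfsg.Agent.FixedHalf
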