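import Mathlib
import Cfsg.Agent.FixedHalf.Orbit

/-!
In a solvable transitive group generated by the conjugates of an element of prime order at
least five, that element fixes at most a fifth of the points.
-/

set_option autoImplicit false

namespace Cfsg.Agent.FixedHalf

universe w

theorem five_mul_fixed_le {p : ℕ} (hp : p.Prime) (hp3 : 3 < p) {H : Type*} [Group H] [Finite H]
    [hH : Group.IsSolvable H] (x : H) (hx : x ^ p = 1) (hgen : Subgroup.normalClosure {x} = ⊤) :
    ∀ (m : ℕ) (Ω : Type w) [Finite Ω] [MulAction H Ω], Nat.card Ω = m → MulAction.IsPretransitive H Ω →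
      1 < m → 5 * Nat.card {ω : Ω // x • ω = ω} ≤ m := by
  classical
  haveI := Fact.mk hp
  intro m
  induction m using Nat.strong_induction_on with
  | _ m ih =>
    intro Ω _ _ hm htr hm1
    let π := MulAction.toPermHom H Ω
    have hπ : ∀ (g : H) (ω : Ω), π g ω = g • ω := fun _ _ => rfl
    haveI : Nontrivial Ω := Finite.one_lt_card_iff_nontrivial.1 (hm ▸ hm1)
    obtain ⟨ω0, ω1, hne⟩ := exists_pair_ne Ω
    have hxne : π x ≠ 1 := by
      intro h
      have hker : Subgroup.normalClosure {x} ≤ π.ker := Subgroup.normalClosure_le_normal (by simpa using h)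
      rw [hgen, top_le_iff] at hker
      obtain ⟨g, hg⟩ := MulAction.exists_smul_eq H ω0 ω1
      have : π g = 1 := MonoidHom.mem_ker.1 (hker ▸ Subgroup.mem_top g)
      exact hne (by rw [← hg, ← hπ, this]; rfl)
    obtain ⟨nd, hnd⟩ := (Group.isSolvable_def H).1 hH
    obtain ⟨k0, hk0, hk1⟩ : ∃ k, ¬ derivedSeries H k ≤ π.ker ∧ derivedSeries H (k + 1) ≤ π.ker := by
      by_contra hcon
      push Not at hcon
      have : ∀ k, ¬ derivedSeries H k ≤ π.ker := by
        intro k
        induction k with
        | zero => exact fun h => hxne (h (Subgroup.mem_top x))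
        | succ k ihk => exact hcon k ihk
      exact this nd (hnd.le.trans bot_le)
    obtain ⟨n1, hn1, hn1k⟩ := SetLike.not_le_iff_exists.1 hk0
    obtain ⟨r, hr, hrd⟩ := Nat.exists_prime_and_dvd (n := orderOf (π n1))
      (fun h => hn1k (orderOf_eq_one_iff.1 h))
    haveI := Fact.mk hr
    have hcomm : ∀ a ∈ derivedSeries H k0, ∀ b ∈ derivedSeries H k0, Commute (π a) (π b) := by
      intro a ha b hb
      rw [← commutatorElement_eq_one_iff_commute, ← map_commutatorElement]
      exact hk1 (Subgroup.commutator_mem_commutator ha hb)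
    let N : Subgroup H :=
      { carrier := {n | n ∈ derivedSeries H k0 ∧ ∃ i, π n ^ r ^ i = 1}
        one_mem' := ⟨one_mem _, 0, by simp⟩
        mul_mem' := by
          rintro a b ⟨ha, i, hi⟩ ⟨hb, j, hj⟩
          refine ⟨mul_mem ha hb, i + j, ?_⟩
          rw [map_mul, (hcomm a ha b hb).mul_pow, pow_add, pow_mul, hi, one_pow,
            one_mul, mul_comm (r ^ i), pow_mul, hj, one_pow]
        inv_mem' := by
          rintro a ⟨ha, i, hi⟩
          exact ⟨inv_mem ha, i, by rw [map_inv, inv_pow, hi, inv_one]⟩ }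
    haveI hNn : N.Normal := ⟨fun n hn g => by
      obtain ⟨hn0, i, hi⟩ := hn
      exact ⟨(inferInstance : (derivedSeries H k0).Normal).conj_mem n hn0 g, i,
        by rw [map_mul, map_mul, map_inv, conj_pow, hi, mul_one, mul_inv_cancel]⟩⟩
    obtain ⟨tr, htr⟩ := hrd
    have hNnot : ∃ n ∈ N, π n ≠ 1 := by
      refine ⟨n1 ^ tr, ⟨pow_mem hn1 _, 1, ?_⟩, ?_⟩
      · rw [pow_one, map_pow, ← pow_mul, mul_comm, ← htr, pow_orderOf_eq_one]
      · rw [map_pow]
        intro h
        have hd := orderOf_dvd_of_pow_eq_one h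
        rw [htr] at hd
        have htr0 : 0 < tr := Nat.pos_of_ne_zero fun h0 => by
          have := orderOf_pos (π n1)
          rw [htr, h0, mul_zero] at this
          exact lt_irrefl 0 this
        have := Nat.le_of_dvd htr0 hd
        nlinarith [hr.two_le]
    let P1 : Subgroup (Equiv.Perm Ω) := N.map π
    have hP1 : IsPGroup r ↥P1 := by
      rintro ⟨_, b, ⟨-, i, hi⟩, rfl⟩
      exact ⟨i, Subtype.ext hi⟩
    have hP1c : ∀ a ∈ P1, ∀ b ∈ P1, a * b = b * a := by
      rintro _ ⟨a, ha, rfl⟩ _ ⟨b, hb, rfl⟩
      exact (hcomm a ha.1 b hb.1).eq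
    by_cases htrans : ∀ a b : Ω, ∃ g ∈ P1, g a = b
    · -- regular case
      have hfree : ∀ g ∈ P1, ∀ g' ∈ P1, ∀ a, g a = g' a → g = g' := by
        intro g hg g' hg' a h
        refine Equiv.ext fun b => ?_
        obtain ⟨t, ht, rfl⟩ := htrans a b
        calc g (t a) = t (g a) := congrArg (fun σ : Equiv.Perm Ω => σ a) (hP1c g hg t ht)
          _ = t (g' a) := by rw [h]
          _ = g' (t a) := congrArg (fun σ : Equiv.Perm Ω => σ a) (hP1c t ht g' hg')
      have hm' : m = Nat.card ↥P1 := by
        rw [← hm]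
        refine (Nat.card_congr (Equiv.ofBijective (fun g : ↥P1 => (g : Equiv.Perm Ω) ω0) ⟨?_, ?_⟩)).symm
        · exact fun g g' h => Subtype.ext (hfree g g.2 g' g'.2 ω0 h)
        · intro b
          obtain ⟨g, hg, rfl⟩ := htrans ω0 b
          exact ⟨⟨g, hg⟩, rfl⟩
      obtain ⟨a, ha⟩ := IsPGroup.iff_card.1 hP1
      by_cases hfix : ∃ c : Ω, x • c = c
      · obtain ⟨c, hc⟩ := hfix
        let C : Subgroup (Equiv.Perm Ω) := P1 ⊓ Subgroup.centralizer {π x}
        have hconj : ∀ g ∈ P1, π x * g * (π x)⁻¹ ∈ P1 := by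
          rintro _ ⟨n, hn, rfl⟩
          exact ⟨x * n * x⁻¹, hNn.conj_mem n hn x, by rw [map_mul, map_mul, map_inv]⟩
        have hfC : Nat.card {ω : Ω // x • ω = ω} = Nat.card ↥C := by
          refine (Nat.card_congr (Equiv.ofBijective (fun g : ↥C => (⟨(g : Equiv.Perm Ω) c, ?_⟩ : {ω : Ω // x • ω = ω})) ⟨?_, ?_⟩)).symm
          · have h := congrArg (fun σ : Equiv.Perm Ω => σ c) (Subgroup.mem_centralizer_singleton_iff.1 g.2.2)
            simp only [Equiv.Perm.mul_apply, hπ, hc] at h
            exact h.symm
          · exact fun g g' h => Subtype.ext (hfree g g.2.1 g' g'.2.1 c (congrArg Subtype.val h))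
          · rintro ⟨b, hb⟩
            obtain ⟨g, hg, rfl⟩ := htrans c b
            refine ⟨⟨g, hg, Subgroup.mem_centralizer_singleton_iff.2 ?_⟩, rfl⟩
            have hxc : (π x)⁻¹ c = c := by
              rw [Equiv.Perm.inv_eq_iff_eq, hπ, hc]
            have h1 : π x * g * (π x)⁻¹ = g := hfree _ (hconj g hg) g hg c (by
              simp only [Equiv.Perm.mul_apply, hxc, hπ, hb])
            rw [mul_inv_eq_iff_eq_mul] at h1
            exact h1.symm
        obtain ⟨b, hb⟩ := IsPGroup.iff_card.1 (hP1.to_le (H := C) inf_le_left)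
        have hlt : b < a := by
          have hle : Nat.card ↥C ≤ Nat.card ↥P1 := Subgroup.card_le_of_le inf_le_left
          rw [ha, hb] at hle
          rcases Nat.lt_or_ge b a with h | h
          · exact h
          exfalso
          apply hxne
          have hba : b = a := le_antisymm ((Nat.pow_le_pow_iff_right hr.one_lt).1 hle) h
          have heq : C = P1 := Subgroup.eq_of_le_of_card_ge inf_le_left (by rw [ha, hb, hba])
          refine Equiv.ext fun b' => ?_
          obtain ⟨g, hg, rfl⟩ := htrans c b'
          have h' := congrArg (fun σ : Equiv.Perm Ω => σ c)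
            (Subgroup.mem_centralizer_singleton_iff.1 (heq.symm.le hg).2)
          simp only [Equiv.Perm.mul_apply, hπ, hc] at h'
          rw [hπ, ← h']; rfl
        have hxp : IsPGroup p ↥(Subgroup.zpowers (π x)) := by
          rintro ⟨g, hg⟩
          obtain ⟨n, rfl⟩ := mem_powers_iff_mem_zpowers.2 hg
          refine ⟨1, Subtype.ext ?_⟩
          change (π x ^ n) ^ p ^ 1 = 1
          rw [pow_one, ← pow_mul, mul_comm, pow_mul, ← map_pow, hx, map_one, one_pow]
        have hcong := hxp.card_modEq_card_fixedPoints Ω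
        have hfp : Nat.card (MulAction.fixedPoints ↥(Subgroup.zpowers (π x)) Ω) =
            Nat.card {ω : Ω // x • ω = ω} := by
          refine Nat.card_congr (Equiv.subtypeEquivRight fun ω => ?_)
          constructor
          · intro h; exact h ⟨π x, Subgroup.mem_zpowers _⟩
          · intro h g
            obtain ⟨n, hn⟩ := mem_powers_iff_mem_zpowers.2 g.2
            change (g : Equiv.Perm Ω) ω = ω
            rw [← hn]
            exact Function.IsFixedPt.perm_pow (show Function.IsFixedPt (π x) ω from h) n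
        rw [hfp, hfC, hm, hm', ha, hb] at hcong
        rw [hfC, hm', ha, hb]
        exact pow_ratio_five hp hp3 hr hlt hcong
      · haveI : IsEmpty {ω : Ω // x • ω = ω} := ⟨fun ω => hfix ⟨ω.1, ω.2⟩⟩
        simp
    · -- blocks
      let Ω' := MulAction.orbitRel.Quotient ↥N Ω
      letI : MulAction H Ω' :=
        { smul := fun h => Quotient.map (fun ω => h • ω) fun a b hab => by
            obtain ⟨⟨n, hn⟩, hn'⟩ := hab
            refine ⟨⟨h * n * h⁻¹, hNn.conj_mem n hn h⟩, ?_⟩
            change (h * n * h⁻¹) • h • b = h • a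
            rw [← mul_smul, inv_mul_cancel_right, mul_smul]
            exact congrArg (h • ·) hn'
          one_smul := fun o => Quotient.inductionOn o fun ω => congrArg (Quotient.mk _) (one_smul H ω)
          mul_smul := fun g h o => Quotient.inductionOn o fun ω => congrArg (Quotient.mk _) (mul_smul g h ω) }
      have htr' : MulAction.IsPretransitive H Ω' := ⟨fun a b => by
        induction a using Quotient.inductionOn with | _ a => ?_
        induction b using Quotient.inductionOn with | _ b => ?_
        obtain ⟨g, hg⟩ := MulAction.exists_smul_eq H a b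
        exact ⟨g, congrArg (Quotient.mk _) hg⟩⟩
      haveI : Fintype Ω' := Fintype.ofFinite _
      haveI : Nonempty Ω := ⟨ω0⟩
      have hconst : ∀ a b : Ω, Nat.card (MulAction.orbit ↥N a) = Nat.card (MulAction.orbit ↥N b) := by
        intro a b
        obtain ⟨g, rfl⟩ := MulAction.exists_smul_eq H a b
        refine Nat.card_congr ((MulAction.toPerm g).subtypeEquiv fun c => ?_)
        constructor
        · rintro ⟨⟨n, hn⟩, rfl⟩
          refine ⟨⟨g * n * g⁻¹, hNn.conj_mem n hn g⟩, ?_⟩
          change (g * n * g⁻¹) • g • a = g • n • a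
          rw [← mul_smul, inv_mul_cancel_right, mul_smul]
        · rintro ⟨⟨n, hn⟩, hn'⟩
          refine ⟨⟨g⁻¹ * n * g, by simpa using hNn.conj_mem n hn g⁻¹⟩, ?_⟩
          change (g⁻¹ * n * g) • a = c
          rw [mul_assoc, mul_smul, mul_smul]
          change g⁻¹ • (n • g • a) = c
          rw [show n • g • a = g • c from hn', inv_smul_smul]
      let b := Nat.card (MulAction.orbit ↥N ω0)
      have hm' : m = Nat.card Ω' * b := by
        rw [← hm, Nat.card_congr (MulAction.selfEquivSigmaOrbits ↥N Ω), Nat.card_sigma,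
          Finset.sum_congr rfl fun o _ => hconst _ ω0, Finset.sum_const, Finset.card_univ, smul_eq_mul,
          Nat.card_eq_fintype_card (α := Ω')]
      have hb1 : 1 < b := by
        obtain ⟨n, hn, hne1⟩ := hNnot
        obtain ⟨c, hc⟩ : ∃ c, π n c ≠ c := by
          by_contra hcon
          push Not at hcon
          exact hne1 (Equiv.ext hcon)
        rw [show b = Nat.card (MulAction.orbit ↥N c) from hconst _ _]
        exact Finite.one_lt_card_iff_nontrivial.2 ⟨⟨_, MulAction.mem_orbit_self c⟩,
          ⟨π n c, ⟨⟨n, hn⟩, rfl⟩⟩, fun h => hc (congrArg Subtype.val h).symm⟩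
      have hm'1 : 1 < Nat.card Ω' := by
        by_contra hcon
        push Not at hcon
        haveI := Finite.card_le_one_iff_subsingleton.1 hcon
        apply htrans
        intro a c
        have h : (Quotient.mk _ c : Ω') = Quotient.mk _ a := Subsingleton.elim _ _
        obtain ⟨⟨n, hn⟩, hn'⟩ := Quotient.exact h
        exact ⟨π n, Subgroup.mem_map_of_mem π hn, hn'⟩
      have hlt : Nat.card Ω' < m := by rw [hm']; exact lt_mul_of_one_lt_right (by omega) hb1
      have h5 := ih _ hlt Ω' rfl htr' hm'1
      have hfle : Nat.card {ω : Ω // x • ω = ω} ≤ Nat.card {o : Ω' // x • o = o} * b := by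
        haveI : Fintype {o : Ω' // x • o = o} := Fintype.ofFinite _
        calc Nat.card {ω : Ω // x • ω = ω}
            ≤ Nat.card (Σ o : {o : Ω' // x • o = o}, MulAction.orbit ↥N o.1.out) := by
              refine Nat.card_le_card_of_injective
                (fun ω => ⟨⟨Quotient.mk _ ω.1, congrArg (Quotient.mk _) ω.2⟩, ω.1,
                  Setoid.symm' _ (Quotient.mk_out (s := MulAction.orbitRel ↥N Ω) ω.1)⟩) ?_
              intro a c hac
              have := congrArg (fun s => (s.2 : Ω)) hac
              exact Subtype.ext this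
          _ = _ := by
              rw [Nat.card_sigma, Finset.sum_congr rfl fun o _ => hconst _ ω0, Finset.sum_const,
                Finset.card_univ, smul_eq_mul, Nat.card_eq_fintype_card (α := {o : Ω' // x • o = o})]
      calc 5 * Nat.card {ω : Ω // x • ω = ω} ≤ 5 * (Nat.card {o : Ω' // x • o = o} * b) :=
            Nat.mul_le_mul_left _ hfle
        _ = (5 * Nat.card {o : Ω' // x • o = o}) * b := (mul_assoc _ _ _).symm
        _ ≤ Nat.card Ω' * b := Nat.mul_le_mul_right _ h5
        _ = m := hm'.symm

end Cfsg.Agent.FixedHalf
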