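import Mathlib
import Cfsg.Agent.FixedHalf.Orbit
import Cfsg.Agent.FixedHalf.Perm

/-!
An element of prime order at least five fixes less than half of a faithful irreducible module,
when some abelian normal subgroup is not central.
-/

set_option autoImplicit false
set_option maxHeartbeats 1000000

namespace Cfsg.Agent.FixedHalf

/-- The fixed vectors of an element. -/
def fixSub {G k V : Type*} [Group G] [Field k] [AddCommGroup V] [Module k V]
    (ρ : G →* Module.End k V) (x : G) : Submodule k V :=
  LinearMap.ker (ρ x - 1)

/-- Irreducibility. -/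
def Irr {G k V : Type*} [Group G] [Field k] [AddCommGroup V] [Module k V]
    (ρ : G →* Module.End k V) : Prop :=
  ∀ W : Submodule k V, (∀ g : G, ∀ w ∈ W, ρ g w ∈ W) → W = ⊥ ∨ W = ⊤

section

variable {G k V : Type*} [Group G] [Field k] [AddCommGroup V] [Module k V] {ρ : G →* Module.End k V}

theorem mem_fixSub {x : G} {v : V} : v ∈ fixSub ρ x ↔ ρ x v = v := by
  rw [fixSub, LinearMap.mem_ker, LinearMap.sub_apply, Module.End.one_apply, sub_eq_zero]

theorem rho_inv_apply (g : G) (v : V) : ρ g (ρ g⁻¹ v) = v := by
  rw [← Module.End.mul_apply, ← map_mul, mul_inv_cancel, map_one, Module.End.one_apply]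

theorem rho_apply_inv (g : G) (v : V) : ρ g⁻¹ (ρ g v) = v := by
  rw [← Module.End.mul_apply, ← map_mul, inv_mul_cancel, map_one, Module.End.one_apply]

theorem rho_injective_apply (g : G) : Function.Injective (ρ g) :=
  Function.LeftInverse.injective (rho_apply_inv (ρ := ρ) g)

/-- Schur: an operator commuting with an irreducible action is zero or injective. -/
theorem schur (hirr : Irr ρ) (φ : Module.End k V) (hc : ∀ g, ρ g * φ = φ * ρ g) :
    φ = 0 ∨ Function.Injective φ := by
  rcases hirr (LinearMap.ker φ) (fun g w hw => by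
    rw [LinearMap.mem_ker] at hw ⊢
    have := LinearMap.congr_fun (hc g) w
    simp only [Module.End.mul_apply, hw, map_zero] at this
    exact this.symm) with h | h
  · exact Or.inr (LinearMap.ker_eq_bot.1 h)
  · exact Or.inl (LinearMap.ker_eq_top.1 h)

end

theorem isField_of_fd_domain {F K : Type*} [Field F] [CommRing K] [IsDomain K] [Algebra F K]
    [FiniteDimensional F K] : IsField K :=
  @Field.toIsField K (fieldOfFiniteDimensional F K)

/-- The case of a non-central abelian normal subgroup. -/
theorem half_of_abelian {G : Type*} [Group G] [Finite G] [Group.IsSolvable G] {p : ℕ} (hp : p.Prime)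
    (hp3 : 3 < p) (x : G) (hx : x ^ p = 1) (hgen : Subgroup.normalClosure {x} = ⊤)
    {k V : Type*} [Field k] [AddCommGroup V] [Module k V] [FiniteDimensional k V] [Nontrivial V]
    (ρ : G →* Module.End k V) (hinj : Function.Injective ρ) (hirr : Irr ρ)
    (A : Subgroup G) [A.Normal] (hAc : ∀ a ∈ A, ∀ b ∈ A, a * b = b * a)
    (hA : ¬ A ≤ Subgroup.center G) :
    2 * Module.finrank k (fixSub ρ x) < Module.finrank k V := by
  classical
  let s : Set (Module.End k V) := ρ '' (A : Set G)
  let R : Subalgebra k (Module.End k V) := Algebra.adjoin k s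
  have hcomm : ∀ a ∈ s, ∀ b ∈ s, a * b = b * a := by
    rintro _ ⟨a, ha, rfl⟩ _ ⟨b, hb, rfl⟩
    rw [← map_mul, ← map_mul, hAc a ha b hb]
  haveI hRc : IsMulCommutative R := Algebra.isMulCommutative_adjoin k hcomm
  letI : CommRing R := { (inferInstance : Ring R) with mul_comm := fun a b => hRc.is_comm.comm a b }
  have hmul : ∀ (g : G) (v : V) (φ : Module.End k V), (ρ g * φ * ρ g⁻¹) (ρ g v) = ρ g (φ v) := fun g v φ => by
    simp only [Module.End.mul_apply, rho_apply_inv]
  have hcj : ∀ (g : G) (r : R), ρ g * (r : Module.End k V) * ρ g⁻¹ ∈ R := by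
    intro g r
    let cg : Module.End k V →ₐ[k] Module.End k V :=
      { toFun := fun φ => ρ g * φ * ρ g⁻¹
        map_one' := by rw [mul_one, ← map_mul, mul_inv_cancel, map_one]
        map_mul' := fun φ ψ => by
          have h : ρ g⁻¹ * ρ g = 1 := by rw [← map_mul, inv_mul_cancel, map_one]
          calc ρ g * (φ * ψ) * ρ g⁻¹ = ρ g * φ * 1 * ψ * ρ g⁻¹ := by simp only [mul_one, mul_assoc]
            _ = _ := by rw [← h]; simp only [mul_assoc]
        map_zero' := by rw [mul_zero, zero_mul]
        map_add' := fun φ ψ => by rw [mul_add, add_mul]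
        commutes' := fun c => by
          rw [Algebra.algebraMap_eq_smul_one, mul_smul_comm, smul_mul_assoc, mul_one, ← map_mul,
            mul_inv_cancel, map_one] }
    have hle : R ≤ R.comap cg := Algebra.adjoin_le (by
      rintro _ ⟨a, ha, rfl⟩
      refine Algebra.subset_adjoin ⟨g * a * g⁻¹, ‹A.Normal›.conj_mem a ha g, ?_⟩
      rw [map_mul, map_mul]
      rfl)
    exact hle r.2
  let cj : G → R → R := fun g r => ⟨ρ g * (r : Module.End k V) * ρ g⁻¹, hcj g r⟩
  have hcjv : ∀ g r, ((cj g r : R) : Module.End k V) = ρ g * (r : Module.End k V) * ρ g⁻¹ := fun _ _ => rfl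
  have hcj1 : ∀ r, cj 1 r = r := fun r => Subtype.ext (by rw [hcjv, inv_one, map_one, one_mul, mul_one])
  have hcjm : ∀ g h r, cj (g * h) r = cj g (cj h r) := fun g h r => Subtype.ext (by
    rw [hcjv, hcjv, hcjv, map_mul, mul_inv_rev, map_mul]; simp only [mul_assoc])
  have hcjmul : ∀ g r r', cj g (r * r') = cj g r * cj g r' := fun g r r' => Subtype.ext (by
    have h : ρ g⁻¹ * ρ g = 1 := by rw [← map_mul, inv_mul_cancel, map_one]
    rw [Subalgebra.coe_mul, hcjv, hcjv, hcjv, Subalgebra.coe_mul]
    calc ρ g * ((r : Module.End k V) * r') * ρ g⁻¹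
        = ρ g * (r : Module.End k V) * 1 * r' * ρ g⁻¹ := by simp only [mul_one, mul_assoc]
      _ = _ := by rw [← h]; simp only [mul_assoc])
  have hcjinj : ∀ g, Function.Injective (cj g) := fun g r r' h => by
    have := congrArg (cj g⁻¹) h
    rwa [← hcjm, ← hcjm, inv_mul_cancel, hcj1, hcj1] at this
  have hcj0 : ∀ g, cj g 0 = 0 := fun g => Subtype.ext (by rw [hcjv, ZeroMemClass.coe_zero, mul_zero, zero_mul])
  -- the algebra is reduced
  have hred : ∀ r : R, IsNilpotent r → r = 0 := by
    intro r hr
    let Nil : Ideal R := nilradical R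
    haveI : IsArtinianRing R := IsArtinianRing.of_finite k R
    obtain ⟨e, he⟩ := IsArtinianRing.isNilpotent_nilradical (R := R)
    let W : Submodule k V := Submodule.span k {w | ∃ n ∈ Nil, ∃ v, w = (n : Module.End k V) v}
    have hWinv : ∀ g : G, ∀ w ∈ W, ρ g w ∈ W := by
      intro g
      have : W ≤ W.comap (ρ g) := Submodule.span_le.2 (by
        rintro _ ⟨n, ⟨m, hm⟩, v, rfl⟩
        refine Submodule.subset_span ⟨cj g n, ⟨m, ?_⟩, ρ g v, ?_⟩
        · have hpow : ∀ i, cj g n ^ i = cj g (n ^ i) := by
            intro i
            induction i with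
            | zero =>
              rw [pow_zero, pow_zero]
              exact Subtype.ext (by rw [hcjv, OneMemClass.coe_one, mul_one, ← map_mul, mul_inv_cancel, map_one])
            | succ i ih => rw [pow_succ, pow_succ, hcjmul, ih]
          change cj g n ^ m ∈ (0 : Ideal R)
          rw [Submodule.zero_eq_bot, Submodule.mem_bot] at hm ⊢
          rw [hpow, hm, hcj0]
        · rw [hcjv, hmul])
      exact fun w hw => this hw
    rcases hirr W hWinv with h | h
    · refine Subtype.ext (LinearMap.ext fun v => ?_)
      have hmem : (r : Module.End k V) v ∈ W := Submodule.subset_span ⟨r, hr, v, rfl⟩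
      rw [h, Submodule.mem_bot] at hmem
      exact hmem
    · exfalso
      have key : ∀ i, (⊤ : Submodule k V) ≤
          Submodule.span k {w | ∃ n ∈ Nil ^ i, ∃ v, w = (n : Module.End k V) v} := by
        intro i
        induction i with
        | zero => exact fun v _ => Submodule.subset_span ⟨1, by simp, v, rfl⟩
        | succ i ih =>
          rw [← h]
          refine Submodule.span_le.2 ?_
          rintro _ ⟨n, hn, v, rfl⟩
          have hv := ih (Submodule.mem_top (x := v))
          have : Submodule.span k {w | ∃ n ∈ Nil ^ i, ∃ v, w = (n : Module.End k V) v} ≤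
              (Submodule.span k {w | ∃ n ∈ Nil ^ (i + 1), ∃ v, w = (n : Module.End k V) v}).comap
                (n : Module.End k V) := Submodule.span_le.2 (by
            rintro _ ⟨m, hm, u, rfl⟩
            exact Submodule.subset_span ⟨n * m, by rw [pow_succ']; exact Ideal.mul_mem_mul hn hm, u, rfl⟩)
          exact this hv
      obtain ⟨v, hv⟩ := exists_ne (0 : V)
      refine hv ?_
      have h1 := key e (Submodule.mem_top (x := v))
      have hbot : Submodule.span k {w | ∃ n ∈ Nil ^ e, ∃ v, w = (n : Module.End k V) v} = ⊥ := by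
        rw [Submodule.span_eq_bot]
        rintro _ ⟨n, hn, u, rfl⟩
        rw [show Nil ^ e = 0 from he, Submodule.zero_eq_bot, Submodule.mem_bot] at hn
        rw [hn]; rfl
      rw [hbot, Submodule.mem_bot] at h1
      exact h1
  have hxA : ∃ a ∈ A, x * a * x⁻¹ ≠ a := by
    by_contra hcon
    push Not at hcon
    apply hA
    have hle : Subgroup.normalClosure {x} ≤ Subgroup.centralizer (A : Set G) :=
      Subgroup.normalClosure_le_normal (by
        rw [Set.singleton_subset_iff, SetLike.mem_coe, Subgroup.mem_centralizer_iff]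
        exact fun a ha => (mul_inv_eq_iff_eq_mul.1 (hcon a ha)).symm)
    intro a ha
    rw [Subgroup.mem_center_iff]
    intro g
    exact ((Subgroup.mem_centralizer_iff.1 (hle (hgen ▸ Subgroup.mem_top g))) a ha).symm
  by_cases hidem : ∀ e : R, e * e = e → e = 0 ∨ e = 1
  · -- the algebra is a field
    have hunit : ∀ r : R, r ≠ 0 → IsUnit r := by
      intro r hr0
      haveI : IsArtinianRing R := IsArtinianRing.of_finite k R
      obtain ⟨n, hn⟩ := IsArtinian.monotone_stabilizes (R := R) (M := R)
        ⟨fun i => OrderDual.toDual (Ideal.span {r ^ i}), fun i j hij => by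
          change Ideal.span {r ^ j} ≤ Ideal.span {r ^ i}
          rw [Ideal.span_singleton_le_span_singleton]
          exact pow_dvd_pow r hij⟩
      have h1 : r ^ n ∈ Ideal.span {r ^ (n + 1)} := by
        have h := OrderDual.toDual.injective (hn (n + 1) (Nat.le_succ n))
        rw [← h]
        exact Ideal.mem_span_singleton_self _
      obtain ⟨t, ht⟩ := Ideal.mem_span_singleton'.1 h1
      have h2 : r * (1 - r * t) = 0 := by
        refine hred _ ⟨n + 1, ?_⟩
        have h3 : r ^ n * (1 - r * t) = 0 := by
          rw [mul_sub, mul_one, sub_eq_zero, ← mul_assoc, ← pow_succ, mul_comm, ht]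
        rw [mul_pow, pow_succ r n, mul_assoc, mul_comm r, ← mul_assoc, pow_succ', ← mul_assoc, h3, zero_mul, zero_mul]
      rw [mul_sub, mul_one, sub_eq_zero] at h2
      rcases hidem (r * t) (by linear_combination (-t) * h2) with h | h
      · exact absurd (by rw [h2, h, mul_zero]) hr0
      · exact IsUnit.of_mul_eq_one t h
    haveI hnt : Nontrivial R := ⟨⟨0, 1, fun h => by
      obtain ⟨v, hv⟩ := exists_ne (0 : V)
      exact hv (by simpa using (LinearMap.congr_fun (congrArg Subtype.val h) v).symm)⟩⟩
    haveI : NoZeroDivisors R := ⟨fun {a b} h => by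
      by_contra hcon
      push Not at hcon
      exact hcon.2 ((hunit a hcon.1).mul_right_eq_zero.1 h)⟩
    haveI : IsDomain R := NoZeroDivisors.to_isDomain R
    obtain ⟨a, ha, hax⟩ := hxA
    have hA' : ∀ i : ℕ, x ^ i * a * (x ^ i)⁻¹ ∈ A := fun i => ‹A.Normal›.conj_mem a ha _
    let r : Fin p → R := fun i => ⟨ρ (x ^ (i : ℕ) * a * (x ^ (i : ℕ))⁻¹),
      Algebra.subset_adjoin ⟨_, hA' _, rfl⟩⟩
    have hrinj : Function.Injective r := by
      suffices h : ∀ i j : Fin p, (i : ℕ) < j → r i ≠ r j by
        intro i j hij
        rcases lt_trichotomy (i : ℕ) j with h1 | h1 | h1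
        · exact absurd hij (h i j h1)
        · exact Fin.ext h1
        · exact absurd hij.symm (h j i h1)
      intro i j hij heq
      have h0 : x ^ (i : ℕ) * a * (x ^ (i : ℕ))⁻¹ = x ^ (j : ℕ) * a * (x ^ (j : ℕ))⁻¹ :=
        hinj (congrArg Subtype.val heq)
      obtain ⟨d, hd, hdeq⟩ : ∃ d, 0 < d ∧ (j : ℕ) = i + d := ⟨j - i, by omega, by omega⟩
      have hdp : d < p := by have := j.isLt; omega
      have hcd : Commute (x ^ d) a := by
        rw [hdeq, pow_add, mul_inv_rev] at h0
        have h1 : x ^ (i : ℕ) * a * (x ^ (i : ℕ))⁻¹ = x ^ (i : ℕ) * (x ^ d * a * (x ^ d)⁻¹) * (x ^ (i : ℕ))⁻¹ := by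
          rw [h0]; simp only [mul_assoc]
        have h2 := mul_left_cancel (mul_right_cancel h1)
        exact (eq_mul_inv_iff_mul_eq.1 h2).symm
      obtain ⟨m, hm⟩ := exists_pow_eq_self_of_coprime (x := x) (n := d) (by
        have : orderOf x ∣ p := orderOf_dvd_of_pow_eq_one hx
        refine Nat.Coprime.coprime_dvd_right this ?_
        exact ((hp.coprime_iff_not_dvd).2 fun hdd => absurd (Nat.le_of_dvd hd hdd) (by omega)).symm)
      apply hax
      rw [mul_inv_eq_iff_eq_mul, ← hm]
      exact (hcd.pow_left m).eq
    let C := fixSub ρ x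
    let L : (Fin p → ↥C) →ₗ[k] V :=
      ∑ j : Fin p, ((r ⟨0, hp.pos⟩ ^ (j : ℕ) : R) : Module.End k V) ∘ₗ C.subtype ∘ₗ LinearMap.proj j
    have hL : Function.Injective L := by
      rw [injective_iff_map_eq_zero]
      intro v hv
      have hfix : ∀ (j : Fin p) (i : ℕ), ρ (x ^ i) (v j : V) = v j := by
        intro j i
        induction i with
        | zero => rw [pow_zero, map_one, Module.End.one_apply]
        | succ i ih => rw [pow_succ, map_mul, Module.End.mul_apply, (mem_fixSub.1 (v j).2), ih]
      have hsys : ∀ i : Fin p, ∑ j : Fin p, ((r i ^ (j : ℕ) : R) : Module.End k V) (v j : V) = 0 := by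
        intro i
        have h0 : ∑ j : Fin p, ((r ⟨0, hp.pos⟩ ^ (j : ℕ) : R) : Module.End k V) (v j : V) = 0 := by
          simpa [L, LinearMap.sum_apply] using hv
        have h1 := congrArg (ρ (x ^ (i : ℕ))) h0
        rw [map_zero, map_sum] at h1
        rw [← h1]
        refine Finset.sum_congr rfl fun j _ => ?_
        have hr : r i = cj (x ^ (i : ℕ)) (r ⟨0, hp.pos⟩) := Subtype.ext (by
          rw [hcjv]
          change ρ _ = ρ _ * ρ _ * ρ _
          rw [← map_mul, ← map_mul]
          simp)
        have hpow : ∀ m : ℕ, cj (x ^ (i : ℕ)) (r ⟨0, hp.pos⟩ ^ m) = r i ^ m := by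
          intro m
          induction m with
          | zero =>
            rw [pow_zero, pow_zero]
            exact Subtype.ext (by rw [hcjv, OneMemClass.coe_one, mul_one, ← map_mul, mul_inv_cancel, map_one])
          | succ m ihm => rw [pow_succ, hcjmul, ihm, ← hr, pow_succ]
        have h2 := hmul (x ^ (i : ℕ)) (v j : V) ((r ⟨0, hp.pos⟩ ^ (j : ℕ) : R) : Module.End k V)
        rw [← h2, ← hcjv, hpow, hfix]
      let M : Matrix (Fin p) (Fin p) R := Matrix.vandermonde r
      have hdet : IsUnit M.det := hunit _ (Matrix.det_vandermonde_ne_zero_iff.2 hrinj)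
      funext l
      refine Subtype.ext ?_
      have h2 : ∑ i : Fin p, ((M.adjugate l i : R) : Module.End k V)
          (∑ j : Fin p, ((M i j : R) : Module.End k V) (v j : V)) = 0 := by
        refine Finset.sum_eq_zero fun i _ => ?_
        simp only [M, Matrix.vandermonde_apply]
        rw [hsys i, map_zero]
      simp only [map_sum] at h2
      rw [Finset.sum_comm] at h2
      have h3 : ∀ j, ∑ i : Fin p, ((M.adjugate l i : R) : Module.End k V) (((M i j : R) : Module.End k V) (v j : V))
          = ((if l = j then M.det else 0 : R) : Module.End k V) (v j : V) := by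
        intro j
        have := congrFun (congrFun (Matrix.adjugate_mul M) l) j
        rw [Matrix.mul_apply, Matrix.smul_apply, Matrix.one_apply, smul_eq_mul, mul_ite, mul_one, mul_zero] at this
        rw [← this, AddSubmonoidClass.coe_finsetSum, LinearMap.sum_apply]
        rfl
      simp only [h3] at h2
      rw [Finset.sum_eq_single l (fun j _ hj => by rw [if_neg (Ne.symm hj)]; rfl)
        (fun h => absurd (Finset.mem_univ l) h), if_pos rfl] at h2
      obtain ⟨d', hd'⟩ := hdet.exists_left_inv
      have := congrArg (d' : Module.End k V) h2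
      rw [map_zero, ← Module.End.mul_apply, ← Subalgebra.coe_mul, hd', OneMemClass.coe_one,
        Module.End.one_apply] at this
      simpa using this
    have hle := LinearMap.finrank_le_finrank_of_injective hL
    rw [Module.finrank_pi_fintype, Finset.sum_const, Finset.card_univ, Fintype.card_fin, smul_eq_mul] at hle
    have hpos : 0 < Module.finrank k V := Module.finrank_pos
    rcases Nat.eq_zero_or_pos (Module.finrank k ↥(fixSub ρ x)) with h0 | h0
    · omega
    · have h3 : 3 * Module.finrank k ↥C ≤ p * Module.finrank k ↥C := Nat.mul_le_mul_right _ hp3.le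
      change 2 * Module.finrank k ↥C < _
      change 0 < Module.finrank k ↥C at h0
      omega
  · -- several primitive idempotents
    let I := {f : R // f ≠ 0 ∧ f * f = f ∧ ∀ e : R, e * e = e → e * f = 0 ∨ e * f = f}
    have horth : ∀ f f' : I, f ≠ f' → (f.1 : R) * f'.1 = 0 := by
      intro f f' hne
      rcases f'.2.2.2 f.1 f.2.2.1 with h | h
      · exact h
      · rcases f.2.2.2 f'.1 f'.2.2.1 with h' | h'
        · rw [mul_comm] at h'; exact h'
        · exact absurd (Subtype.ext (by rw [← h', mul_comm, h])) hne
    haveI : Finite I := by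
      have hli : LinearIndependent k (fun f : I => f.1) := by
        rw [linearIndependent_iff']
        intro t g hg f hf
        have h := congrArg (· * f.1) hg
        simp only [Finset.sum_mul, zero_mul, smul_mul_assoc] at h
        rw [Finset.sum_eq_single_of_mem f hf (fun f' _ hne => by rw [horth f' f hne, smul_zero]), f.2.2.1] at h
        exact (smul_eq_zero.1 h).resolve_right f.2.1
      exact hli.finite
    haveI : Fintype I := Fintype.ofFinite I
    -- every idempotent is a sum of primitive ones
    have hdec : ∀ (d : ℕ) (e : R), e * e = e → Module.finrank k (LinearMap.range (e : Module.End k V)) = d →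
        ∃ T : Finset I, e = ∑ f ∈ T, f.1 := by
      intro d
      induction d using Nat.strong_induction_on with
      | _ d ihd =>
        intro e he hd
        by_cases he0 : e = 0
        · exact ⟨∅, by simp [he0]⟩
        by_cases hprim : ∀ e' : R, e' * e' = e' → e' * e = 0 ∨ e' * e = e
        · exact ⟨{⟨e, he0, he, hprim⟩}, by simp⟩
        push Not at hprim
        obtain ⟨e', he', h1, h2⟩ := hprim
        have hlt : ∀ u : R, u * u = u → u * e = u → u ≠ e →
            Module.finrank k (LinearMap.range (u : Module.End k V)) < d := by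
          intro u hu hue hune
          rw [← hd]
          refine Submodule.finrank_lt_finrank_of_lt (lt_of_le_of_ne ?_ ?_)
          · rintro _ ⟨v, rfl⟩
            refine ⟨(u : Module.End k V) v, ?_⟩
            rw [← Module.End.mul_apply, ← Subalgebra.coe_mul, mul_comm e u, hue]
          · intro heq
            refine hune (Subtype.ext (LinearMap.ext fun v => ?_))
            obtain ⟨w, hw⟩ := heq.symm.le ⟨v, rfl⟩
            have := congrArg (u : Module.End k V) hw
            rw [← Module.End.mul_apply, ← Module.End.mul_apply, ← Subalgebra.coe_mul, ← Subalgebra.coe_mul,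
              hu, hue] at this
            rw [← this, hw]
        have hu1 : (e' * e) * (e' * e) = e' * e := by rw [mul_mul_mul_comm, he', he]
        have hu2 : (e - e' * e) * (e - e' * e) = e - e' * e := by
          have : e * (e' * e) = e' * e := by rw [mul_left_comm, he]
          calc (e - e' * e) * (e - e' * e) = e * e - 2 * (e * (e' * e)) + (e' * e) * (e' * e) := by ring
            _ = _ := by rw [he, this, hu1]; ring
        obtain ⟨T1, hT1⟩ := ihd _ (hlt _ hu1 (by rw [mul_assoc, he]) h2) _ hu1 rfl
        obtain ⟨T2, hT2⟩ := ihd _ (hlt _ hu2 (by rw [sub_mul, mul_assoc, he]) (fun h => h1 (by simpa using h)))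
          _ hu2 rfl
        refine ⟨T1 ∪ T2, ?_⟩
        have hdisj : Disjoint T1 T2 := by
          rw [Finset.disjoint_left]
          intro f hf1 hf2
          have e1 : (e' * e) * f.1 = f.1 := by
            rw [hT1, Finset.sum_mul, Finset.sum_eq_single_of_mem f hf1 (fun f' _ hne => horth f' f hne), f.2.2.1]
          have e2 : (e - e' * e) * f.1 = f.1 := by
            rw [hT2, Finset.sum_mul, Finset.sum_eq_single_of_mem f hf2 (fun f' _ hne => horth f' f hne), f.2.2.1]
          apply f.2.1
          have : (e' * e) * ((e - e' * e) * f.1) = 0 := by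
            rw [← mul_assoc, mul_sub, hu1, mul_assoc, he, sub_self, zero_mul]
          rwa [e2, e1] at this
        rw [Finset.sum_union hdisj, ← hT1, ← hT2]; ring
    obtain ⟨T, hT⟩ := hdec _ 1 (one_mul 1) rfl
    have hTall : ∀ f : I, f ∈ T := by
      intro f
      by_contra hf
      apply f.2.1
      calc f.1 = f.1 * 1 := (mul_one _).symm
        _ = 0 := by
          rw [hT, Finset.mul_sum]
          exact Finset.sum_eq_zero fun f' hf' => horth f f' fun h => hf (h ▸ hf')
    have hone : (1 : R) = ∑ f : I, f.1 := by
      rw [hT, Finset.eq_univ_of_forall hTall]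
    -- the action on the idempotents
    have hcjI : ∀ (g : G) (f : I), cj g f.1 ≠ 0 ∧ cj g f.1 * cj g f.1 = cj g f.1 ∧
        ∀ e : R, e * e = e → e * cj g f.1 = 0 ∨ e * cj g f.1 = cj g f.1 := by
      intro g f
      refine ⟨fun h => f.2.1 (hcjinj g (by rw [h, hcj0])), by rw [← hcjmul, f.2.2.1], fun e he => ?_⟩
      have he' : cj g⁻¹ e * cj g⁻¹ e = cj g⁻¹ e := by rw [← hcjmul, he]
      have hee : e = cj g (cj g⁻¹ e) := by rw [← hcjm, mul_inv_cancel, hcj1]
      rcases f.2.2.2 _ he' with h | h
      · left; rw [hee, ← hcjmul, h, hcj0]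
      · right; rw [hee, ← hcjmul, h]
    letI : MulAction G I :=
      { smul := fun g f => ⟨cj g f.1, hcjI g f⟩
        one_smul := fun f => Subtype.ext (hcj1 f.1)
        mul_smul := fun g h f => Subtype.ext (hcjm g h f.1) }
    have hsm : ∀ (g : G) (f : I), (g • f).1 = cj g f.1 := fun _ _ => rfl
    have htr : MulAction.IsPretransitive G I := ⟨fun f f' => by
      by_contra hcon
      push Not at hcon
      let o := Finset.univ.filter fun e : I => ∃ g : G, g • f = e
      let σ0 : R := ∑ e ∈ o, e.1
      have hf0 : σ0 * f.1 = f.1 := by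
        rw [Finset.sum_mul, Finset.sum_eq_single_of_mem f
          (Finset.mem_filter.2 ⟨Finset.mem_univ _, 1, one_smul G f⟩) (fun e _ hne => horth e f hne), f.2.2.1]
      have hσ2 : σ0 * σ0 = σ0 := by
        conv_lhs => rw [Finset.sum_mul]
        refine Finset.sum_congr rfl fun e he => ?_
        rw [Finset.mul_sum, Finset.sum_eq_single_of_mem e he (fun e' _ hne => horth e e' (Ne.symm hne)), e.2.2.1]
      have hσg : ∀ g, cj g σ0 = σ0 := by
        intro g
        have hadd : ∀ t : Finset I, cj g (∑ e ∈ t, e.1) = ∑ e ∈ t, cj g e.1 := fun t =>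
          Subtype.ext (by rw [hcjv, AddSubmonoidClass.coe_finsetSum, AddSubmonoidClass.coe_finsetSum,
            Finset.mul_sum, Finset.sum_mul])
        rw [hadd]
        refine Finset.sum_equiv (MulAction.toPerm g) (fun e => ?_) (fun e _ => rfl)
        simp only [o, Finset.mem_filter, Finset.mem_univ, true_and, MulAction.toPerm_apply]
        constructor
        · rintro ⟨h, rfl⟩; exact ⟨g * h, mul_smul g h f⟩
        · rintro ⟨h, hh⟩; exact ⟨g⁻¹ * h, by rw [mul_smul, hh, inv_smul_smul]⟩
      rcases schur hirr (σ0 : Module.End k V) (fun g => by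
        have h := congrArg (fun r : R => (r : Module.End k V) * ρ g) (hσg g)
        simp only [hcjv, mul_assoc, ← map_mul, inv_mul_cancel, map_one, mul_one] at h
        exact h) with h | h
      · exact f.2.1 (by rw [← hf0, show σ0 = 0 from Subtype.ext h, zero_mul])
      · have hσ1 : σ0 = 1 := Subtype.ext (LinearMap.ext fun v => h (by
          rw [← Module.End.mul_apply, ← Subalgebra.coe_mul, hσ2, OneMemClass.coe_one, Module.End.one_apply]))
        apply f'.2.1
        calc f'.1 = σ0 * f'.1 := by rw [hσ1, one_mul]
          _ = 0 := by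
            rw [Finset.sum_mul]
            refine Finset.sum_eq_zero fun e he => horth e f' ?_
            rintro rfl
            obtain ⟨g, hg⟩ := (Finset.mem_filter.1 he).2
            exact hcon g hg⟩
    have hI1 : 1 < Nat.card I := by
      by_contra hcon
      push Not at hcon
      haveI := Finite.card_le_one_iff_subsingleton.1 hcon
      apply hidem
      intro e he
      obtain ⟨Te, hTe⟩ := hdec _ e he rfl
      rcases Te.eq_empty_or_nonempty with h | ⟨f, hf⟩
      · left; rw [hTe, h, Finset.sum_empty]
      · right
        rw [hTe, hone]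
        congr 1
        exact Finset.eq_univ_of_forall fun f' => Subsingleton.elim f f' ▸ hf
    have h5 := five_mul_fixed_le hp hp3 x hx hgen _ I rfl htr hI1
    let Wi : I → Submodule k V := fun f => LinearMap.range (f.1 : Module.End k V)
    obtain ⟨f0⟩ : Nonempty I := (Nat.card_pos_iff.1 (by omega : 0 < Nat.card I)).1
    let b := Module.finrank k (Wi f0)
    have hb : ∀ f, Module.finrank k (Wi f) = b := by
      intro f
      obtain ⟨g, rfl⟩ := MulAction.exists_smul_eq G f0 f
      have hmap : Wi (g • f0) = (Wi f0).map (ρ g) := by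
        ext w
        simp only [Wi, Submodule.mem_map, LinearMap.mem_range, hsm, hcjv]
        constructor
        · rintro ⟨v, rfl⟩
          exact ⟨_, ⟨ρ g⁻¹ v, rfl⟩, rfl⟩
        · rintro ⟨_, ⟨v, rfl⟩, rfl⟩
          exact ⟨ρ g v, hmul g v _⟩
      rw [hmap]
      exact (Submodule.equivMapOfInjective _ (rho_injective_apply g) _).finrank_eq.symm
    let P : I → V →ₗ[k] V := fun f => (f.1 : Module.End k V)
    have hsum : ∀ v : V, ∑ f : I, P f v = v := fun v => by
      have := congrArg (fun r : R => (r : Module.End k V) v) hone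
      simp only [OneMemClass.coe_one, Module.End.one_apply, AddSubmonoidClass.coe_finsetSum,
        LinearMap.sum_apply] at this
      exact this.symm
    have hn : Module.finrank k V = Nat.card I * b := by
      let e : V →ₗ[k] ∀ f : I, ↥(Wi f) := LinearMap.pi fun f => (P f).rangeRestrict
      have hbij : Function.Bijective e := by
        refine ⟨fun v w h => ?_, fun u => ⟨∑ f : I, (u f : V), ?_⟩⟩
        · rw [← hsum v, ← hsum w]
          exact Finset.sum_congr rfl fun f _ => congrArg Subtype.val (congrFun h f)
        · funext f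
          refine Subtype.ext ?_
          change P f (∑ f' : I, (u f' : V)) = u f
          rw [map_sum, Finset.sum_eq_single f]
          · obtain ⟨v, hv⟩ := (u f).2
            rw [← hv, ← Module.End.mul_apply, ← Subalgebra.coe_mul, f.2.2.1]
          · intro f' _ hne
            obtain ⟨v, hv⟩ := (u f').2
            rw [← hv]
            change ((f.1 : Module.End k V) * f'.1) v = 0
            rw [← Subalgebra.coe_mul, horth f f' hne.symm]
            rfl
          · exact fun h => absurd (Finset.mem_univ f) h
      rw [(LinearEquiv.ofBijective e hbij).finrank_eq, Module.finrank_pi_fintype,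
        Finset.sum_congr rfl fun f _ => hb f, Finset.sum_const, Finset.card_univ, smul_eq_mul,
        Nat.card_eq_fintype_card]
    let σ : Equiv.Perm I := MulAction.toPerm x
    obtain ⟨S, hS, hScard⟩ := exists_reps hp σ (by
      have : σ = MulAction.toPermHom G I x := rfl
      rw [this, ← map_pow, hx, map_one])
    have hc := finrank_le_of_reps (k := k) σ P Wi b (fun f => (hb f).le) (fun f v => ⟨v, rfl⟩) (fixSub ρ x) S hS
      (fun u _ hall => by rw [← hsum u]; exact Finset.sum_eq_zero fun f _ => hall f)
      (fun u hu f hf => by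
        change ((x • f).1 : Module.End k V) u = 0
        conv_lhs => rw [← mem_fixSub.1 hu, hsm, hcjv, hmul]
        change ρ x (P f u) = 0
        rw [hf, map_zero])
    have hS2 : 2 * S.card < Nat.card I := by
      have hfix : Nat.card {f : I // σ f = f} = Nat.card {f : I // x • f = f} := rfl
      rw [hfix] at hScard
      have hp5 : 5 ≤ p := by
        rcases (show p = 4 ∨ 5 ≤ p by omega) with rfl | h
        · exact absurd hp (by decide)
        · exact h
      have : 5 * (p * S.card) ≤ (5 + (p - 1)) * Nat.card I := by
        calc 5 * (p * S.card) ≤ 5 * (Nat.card I + (p - 1) * Nat.card {f : I // x • f = f}) :=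
              Nat.mul_le_mul_left _ hScard
          _ = 5 * Nat.card I + (p - 1) * (5 * Nat.card {f : I // x • f = f}) := by ring
          _ ≤ 5 * Nat.card I + (p - 1) * Nat.card I := Nat.add_le_add_left (Nat.mul_le_mul_left _ h5) _
          _ = _ := by ring
      by_contra hcon
      push Not at hcon
      have h2 : 5 * (p * Nat.card I) ≤ 2 * ((5 + (p - 1)) * Nat.card I) := by
        calc 5 * (p * Nat.card I) ≤ 5 * (p * (2 * S.card)) := by gcongr
          _ = 2 * (5 * (p * S.card)) := by ring
          _ ≤ _ := Nat.mul_le_mul_left _ this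
      have h3 : 5 * p ≤ 2 * (5 + (p - 1)) := by
        have h4 : (5 * p) * Nat.card I ≤ (2 * (5 + (p - 1))) * Nat.card I := by
          rw [mul_assoc, mul_assoc]; exact h2
        exact Nat.le_of_mul_le_mul_right h4 (by omega)
      omega
    have hbpos : 0 < b := by
      rcases Nat.eq_zero_or_pos b with h | h
      · have hpos : 0 < Module.finrank k V := Module.finrank_pos
        rw [hn, h, mul_zero] at hpos
        exact absurd hpos (lt_irrefl 0)
      · exact h
    rw [hn]
    calc 2 * Module.finrank k ↥(fixSub ρ x) ≤ 2 * (S.card * b) := Nat.mul_le_mul_left _ hc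
      _ = (2 * S.card) * b := (mul_assoc _ _ _).symm
      _ < _ := Nat.mul_lt_mul_of_pos_right hS2 hbpos

end Cfsg.Agent.FixedHalf
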