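import Mathlib
import Cfsg.Agent.FixedHalf.Abelian

/-!
An element of prime order at least five fixes less than half of a faithful irreducible module,
when every abelian normal subgroup is central and the center acts by scalars: the problem reduces
to a smaller group acting on a minimal normal subgroup of the central quotient.
-/

set_option autoImplicit false
set_option maxHeartbeats 1000000

namespace Cfsg.Agent.FixedHalf

universe u

/-- The statement for smaller groups, over prime fields. -/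
def Rec (G : Type u) [Group G] (p : ℕ) : Prop :=
  ∀ (H : Type u) [Group H] [Finite H] [Group.IsSolvable H], Nat.card H < Nat.card G →
    ∀ y : H, y ^ p = 1 → y ≠ 1 → Subgroup.normalClosure {y} = ⊤ →
    ∀ (q : ℕ) [Fact q.Prime] (W : Type u) [AddCommGroup W] [Module (ZMod q) W]
      [FiniteDimensional (ZMod q) W] [Nontrivial W] (σ : H →* Module.End (ZMod q) W),
      Function.Injective σ → Irr σ →
      2 * Module.finrank (ZMod q) (fixSub σ y) < Module.finrank (ZMod q) W

theorem exists_minimal_elementary {Q : Type*} [Group Q] [Finite Q] [Group.IsSolvable Q] [Nontrivial Q] :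
    ∃ (N : Subgroup Q) (q : ℕ), N.Normal ∧ N ≠ ⊥ ∧ q.Prime ∧ (∀ a ∈ N, ∀ b ∈ N, a * b = b * a) ∧
      (∀ a ∈ N, a ^ q = 1) ∧ ∀ M : Subgroup Q, M.Normal → M ≤ N → M = ⊥ ∨ M = N := by
  classical
  have hne : ({M : Subgroup Q | M.Normal ∧ M ≠ ⊥}).Nonempty :=
    ⟨⊤, inferInstance, (Subgroup.nontrivial_iff.2 ‹Nontrivial Q› |> fun h => by
      exact top_ne_bot)⟩
  obtain ⟨N, hN, hmin'⟩ := (Set.toFinite _).exists_minimal hne
  obtain ⟨hNn, hNb⟩ := hN
  haveI := hNn
  have hmin : ∀ M : Subgroup Q, M.Normal → M ≤ N → M = ⊥ ∨ M = N := fun M hM hMN =>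
    or_iff_not_imp_left.2 fun hMb => le_antisymm hMN (hmin' ⟨hM, hMb⟩ hMN)
  haveI : Nontrivial N := (Subgroup.nontrivial_iff_ne_bot N).2 hNb
  have hder : ⁅N, N⁆ < N := Group.IsSolvable.commutator_lt_of_ne_bot hNb
  have hab : ⁅N, N⁆ = ⊥ := (hmin _ inferInstance hder.le).resolve_right hder.ne
  have hc : ∀ a ∈ N, ∀ b ∈ N, a * b = b * a := by
    intro a ha b hb
    have h := Subgroup.commutator_mem_commutator ha hb
    rw [hab, Subgroup.mem_bot] at h
    exact commutatorElement_eq_one_iff_mul_comm.1 h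
  obtain ⟨q, hq, hdvd⟩ := Nat.exists_prime_and_dvd (n := Nat.card N) (Finite.one_lt_card).ne'
  haveI : Fact q.Prime := ⟨hq⟩
  let T : Subgroup Q :=
    { carrier := {a | a ∈ N ∧ a ^ q = 1}
      one_mem' := ⟨N.one_mem, one_pow q⟩
      mul_mem' := fun ha hb => ⟨N.mul_mem ha.1 hb.1, by
        rw [(show Commute _ _ from hc _ ha.1 _ hb.1).mul_pow, ha.2, hb.2, one_mul]⟩
      inv_mem' := fun ha => ⟨N.inv_mem ha.1, by rw [inv_pow, ha.2, inv_one]⟩ }
  have hT : T.Normal := ⟨fun a ha g => ⟨hNn.conj_mem a ha.1 g, by rw [conj_pow, ha.2, mul_one, mul_inv_cancel]⟩⟩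
  obtain ⟨a, ha⟩ := exists_prime_orderOf_dvd_card' q hdvd
  have haT : (a : Q) ∈ T := ⟨a.2, by rw [← Subgroup.coe_pow, ← ha, pow_orderOf_eq_one, Subgroup.coe_one]⟩
  have hTN : T = N := (hmin T hT fun b hb => hb.1).resolve_left fun h => by
    rw [h, Subgroup.mem_bot] at haT
    rw [show a = 1 from Subtype.ext haT, orderOf_one] at ha
    exact hq.ne_one ha.symm
  exact ⟨N, q, hNn, hNb, hq, hc, fun b hb => (show b ∈ T from hTN ▸ hb).2, hmin⟩

/-- Automorphisms of an elementary abelian group as linear maps. -/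
def autEnd {A : Type*} [CommGroup A] (q : ℕ) [Fact q.Prime] [Module (ZMod q) (Additive A)] :
    MulAut A →* Module.End (ZMod q) (Additive A) where
  toFun f := (MonoidHom.toAdditive f.toMonoidHom).toZModLinearMap q
  map_one' := LinearMap.ext fun _ => rfl
  map_mul' _ _ := LinearMap.ext fun _ => rfl

theorem autEnd_apply {A : Type*} [CommGroup A] (q : ℕ) [Fact q.Prime] [Module (ZMod q) (Additive A)] (f : MulAut A) (a : A) :
    autEnd q f (Additive.ofMul a) = Additive.ofMul (f a) := rfl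

/-- The case in which every abelian normal subgroup is central and the center acts by scalars. -/
theorem half_of_central {G : Type u} [Group G] [Finite G] [Group.IsSolvable G] {p : ℕ} (hp : p.Prime)
    (hp3 : 3 < p) (x : G) (hx : x ^ p = 1) (hgen : Subgroup.normalClosure {x} = ⊤)
    (hxc : x ∉ Subgroup.center G)
    {k V : Type*} [Field k] [AddCommGroup V] [Module k V] [FiniteDimensional k V]
    (ρ : G →* Module.End k V) (hinj : Function.Injective ρ)
    (hab : ∀ A : Subgroup G, A.Normal → (∀ a ∈ A, ∀ b ∈ A, a * b = b * a) → A ≤ Subgroup.center G)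
    (hsc : ∀ z ∈ Subgroup.center G, ∃ c : k, ρ z = c • (1 : Module.End k V))
    (hrec : Rec G p) :
    2 * Module.finrank k (fixSub ρ x) < Module.finrank k V := by
  classical
  set Z := Subgroup.center G with hZdef
  let π₀ := QuotientGroup.mk' Z
  haveI : Group.IsSolvable (G ⧸ Z) := Group.isSolvable_of_surjective (QuotientGroup.mk'_surjective Z)
  haveI : Nontrivial (G ⧸ Z) := ⟨⟨π₀ x, 1, fun h => hxc ((QuotientGroup.eq_one_iff x).1 h)⟩⟩
  obtain ⟨N, q, hNn, hNb, hq, hNc, hNq, hmin⟩ := exists_minimal_elementary (Q := G ⧸ Z)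
  haveI := hNn
  haveI : Fact q.Prime := ⟨hq⟩
  let E : Subgroup G := N.comap π₀
  haveI : Fintype E := Fintype.ofFinite E
  have hmk : ∀ g, π₀ g = 1 ↔ g ∈ Z := fun g => QuotientGroup.eq_one_iff g
  have hZE : Z ≤ E := fun z hz => by
    rw [Subgroup.mem_comap, (hmk z).2 hz]; exact N.one_mem
  have hcommZ : ∀ e ∈ E, ∀ f ∈ E, e * f * e⁻¹ * f⁻¹ ∈ Z := by
    intro e he f hf
    rw [← hmk, map_mul, map_mul, map_mul, map_inv, map_inv, hNc _ he _ hf]
    simp
  have hqZ : ∀ e ∈ E, e ^ q ∈ Z := fun e he => by rw [← hmk, map_pow]; exact hNq _ he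
  have hcen : ∀ z ∈ Z, ∀ g, g * z = z * g := fun z hz g => Subgroup.mem_center_iff.1 hz g
  -- the radical is central
  have hnd : ∀ u ∈ E, u ∉ Z → ∃ e ∈ E, e * u * e⁻¹ * u⁻¹ ≠ 1 := by
    intro u hu huZ
    by_contra hcon
    push Not at hcon
    haveI : (E ⊓ Subgroup.centralizer (E : Set G)).Normal := by
      haveI : E.Normal := inferInstanceAs (N.comap π₀).Normal
      infer_instance
    apply huZ
    refine hab (E ⊓ Subgroup.centralizer (E : Set G)) inferInstance ?_ ⟨hu, ?_⟩
    · intro a ha b hb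
      exact (Subgroup.mem_centralizer_iff.1 hb.2 a ha.1)
    · exact fun e he => mul_inv_eq_iff_eq_mul.1 (mul_inv_eq_one.1 (hcon e he))
  obtain ⟨u₀, hu₀, hu₀Z⟩ : ∃ u ∈ E, u ∉ Z := by
    by_contra hcon
    push Not at hcon
    apply hNb
    rw [eq_bot_iff]
    intro m hm
    obtain ⟨g, rfl⟩ := QuotientGroup.mk'_surjective Z m
    rw [Subgroup.mem_bot]
    exact (hmk g).2 (hcon g hm)
  obtain ⟨e₀, he₀, hne₀⟩ := hnd u₀ hu₀ hu₀Z
  have hT0 : ρ x - 1 ≠ 0 := fun h => by
    apply hxc
    rw [sub_eq_zero, ← map_one ρ] at h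
    rw [hinj h]; exact Z.one_mem
  haveI hV : Nontrivial V := by
    by_contra hcon
    rw [not_nontrivial_iff_subsingleton] at hcon
    exact hT0 (Subsingleton.elim _ _)
  have hscal : ∀ c : k, c • (1 : Module.End k V) = 1 → c = 1 := by
    intro c hc
    obtain ⟨v, hv⟩ := exists_ne (0 : V)
    have h1 := LinearMap.congr_fun hc v
    rw [LinearMap.smul_apply, Module.End.one_apply] at h1
    exact smul_left_injective k hv (h1.trans (one_smul k v).symm)
  have hcomZ : ∀ z ∈ Z, ∀ φ : Module.End k V, ρ z * φ = φ * ρ z := by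
    intro z hz φ
    obtain ⟨c, hc⟩ := hsc z hz
    rw [hc, smul_mul_assoc, mul_smul_comm, one_mul, mul_one]
  -- characteristic
  obtain ⟨ℓ, hℓ⟩ := CharP.exists k
  have hcharE : ((Nat.card E : ℕ) : k) ≠ 0 := by
    intro h0
    rw [CharP.cast_eq_zero_iff k ℓ] at h0
    rcases CharP.char_is_prime_or_zero k ℓ with hℓp | rfl
    swap
    · exact absurd (zero_dvd_iff.1 h0) Nat.card_pos.ne'
    haveI : Fact ℓ.Prime := ⟨hℓp⟩
    have hroot : ∀ z ∈ Z, z ^ ℓ = 1 → z = 1 := by
      intro z hz hzl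
      obtain ⟨c, hc⟩ := hsc z hz
      have h1 : (c ^ ℓ) • (1 : Module.End k V) = 1 := by
        have h := congrArg ρ hzl
        rwa [map_pow, hc, _root_.smul_pow, one_pow, map_one] at h
      have h2 : (c - 1) ^ ℓ = 0 := by rw [sub_pow_char, one_pow, hscal _ h1, sub_self]
      rw [sub_eq_zero.1 (eq_zero_of_pow_eq_zero h2), one_smul, ← map_one ρ] at hc
      exact hinj hc
    obtain ⟨e, he⟩ := exists_prime_orderOf_dvd_card' ℓ h0
    have h1 : ((e : G) ^ q) ^ ℓ = 1 := by
      rw [← pow_mul, mul_comm, pow_mul, ← Subgroup.coe_pow, ← he, pow_orderOf_eq_one, Subgroup.coe_one, one_pow]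
    have h2 : e ^ q = 1 := Subtype.ext (hroot _ (hqZ _ e.2) h1)
    have h3 : ℓ = q := by
      rw [← (Nat.prime_dvd_prime_iff_eq hℓp hq), ← he]
      exact orderOf_dvd_of_pow_eq_one h2
    apply hne₀
    refine hroot _ (hcommZ _ he₀ _ hu₀) ?_
    rw [h3]
    -- a commutator of elements of a group of class two has order dividing q
    have hz := hcommZ _ he₀ _ hu₀
    set z := e₀ * u₀ * e₀⁻¹ * u₀⁻¹ with hzd
    have h4 : e₀ * u₀ * e₀⁻¹ = z * u₀ := by rw [hzd]; group
    have h5 : e₀ * u₀ ^ q * e₀⁻¹ = z ^ q * u₀ ^ q := by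
      rw [← conj_pow, h4]
      exact (show Commute z u₀ from (hcen z hz u₀).symm).mul_pow q
    rw [hcen _ (hqZ _ hu₀) e₀, mul_inv_cancel_right] at h5
    exact (right_eq_mul.1 h5)
  -- sums over E
  have hchar0 : ∀ u ∈ E, u ∉ Z → ∑ e : E, ρ ((e : G) * u * (e : G)⁻¹ * u⁻¹) = 0 := by
    intro u hu huZ
    obtain ⟨e1, he1, hne⟩ := hnd u hu huZ
    obtain ⟨c, hc⟩ := hsc _ (hcommZ e1 he1 u hu)
    have hsh : ∑ e : E, ρ ((e : G) * u * (e : G)⁻¹ * u⁻¹) =
        ρ (e1 * u * e1⁻¹ * u⁻¹) * ∑ e : E, ρ ((e : G) * u * (e : G)⁻¹ * u⁻¹) := by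
      rw [Finset.mul_sum]
      refine (Fintype.sum_equiv (Equiv.mulLeft (⟨e1, he1⟩ : E)) _ _ fun e => ?_).symm
      rw [← map_mul]
      congr 1
      simp only [Equiv.coe_mulLeft, Subgroup.coe_mul]
      have hz := hcommZ _ e.2 u hu
      calc e1 * u * e1⁻¹ * u⁻¹ * ((e : G) * u * (e : G)⁻¹ * u⁻¹)
          = ((e : G) * u * (e : G)⁻¹ * u⁻¹) * (e1 * u * e1⁻¹ * u⁻¹) := hcen _ hz _
        _ = e1 * ((e : G) * u * (e : G)⁻¹ * u⁻¹) * e1⁻¹ * (e1 * u * e1⁻¹ * u⁻¹) := by
          rw [hcen _ hz e1, mul_inv_cancel_right]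
        _ = _ := by group
    rw [hc, smul_mul_assoc, one_mul] at hsh
    have h0 : (c - 1) • ∑ e : E, ρ ((e : G) * u * (e : G)⁻¹ * u⁻¹) = 0 := by
      rw [sub_smul, one_smul, ← hsh, sub_self]
    refine (smul_eq_zero.1 h0).resolve_left fun h => ?_
    rw [sub_eq_zero.1 h, one_smul, ← map_one ρ] at hc
    exact hne (hinj hc)
  let πl : Module.End k V →ₗ[k] Module.End k V :=
    ∑ u : E, (LinearMap.mulLeft k (ρ (u : G))) ∘ₗ (LinearMap.mulRight k (ρ (u : G)⁻¹))
  have hπ : ∀ φ, πl φ = ∑ u : E, ρ (u : G) * φ * ρ (u : G)⁻¹ := fun φ => by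
    simp [πl, LinearMap.sum_apply, mul_assoc]
  let C : Submodule k (Module.End k V) :=
    { carrier := {φ | ∀ e ∈ E, ρ e * φ = φ * ρ e}
      zero_mem' := fun e _ => by rw [mul_zero, zero_mul]
      add_mem' := fun ha hb e he => by rw [mul_add, add_mul, ha e he, hb e he]
      smul_mem' := fun c φ h e he => by rw [mul_smul_comm, smul_mul_assoc, h e he] }
  have hρi : ∀ g : G, ρ g⁻¹ * ρ g = 1 := fun g => by rw [← map_mul, inv_mul_cancel, map_one]
  have hπC : ∀ φ, πl φ ∈ C := by
    intro φ e he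
    have h : ρ e * πl φ * ρ e⁻¹ = πl φ := by
      rw [hπ, Finset.mul_sum, Finset.sum_mul]
      refine Fintype.sum_equiv (Equiv.mulLeft (⟨e, he⟩ : E)) _ _ fun u => ?_
      simp only [Equiv.coe_mulLeft, Subgroup.coe_mul, map_mul, mul_inv_rev, mul_assoc]
    conv_rhs => rw [← h]
    rw [mul_assoc _ (ρ e⁻¹), hρi, mul_one]
  have hEn : E.Normal := inferInstanceAs (N.comap π₀).Normal
  have hπconj : ∀ (g : G) φ, ρ g * πl φ * ρ g⁻¹ = πl (ρ g * φ * ρ g⁻¹) := by
    intro g φ
    rw [hπ, hπ, Finset.mul_sum, Finset.sum_mul]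
    haveI := hEn
    refine Fintype.sum_equiv (MulAut.conjNormal g).toEquiv _ _ fun u => ?_
    simp only [MulEquiv.toEquiv_eq_coe, EquivLike.coe_coe, MulAut.conjNormal_apply, map_mul, mul_inv_rev,
      inv_inv, mul_assoc]
    rw [← mul_assoc (ρ g⁻¹) (ρ g), hρi, one_mul, ← mul_assoc (ρ g⁻¹) (ρ g), hρi, one_mul]
  have hπmulC : ∀ φ γ, γ ∈ C → πl (φ * γ) = πl φ * γ := by
    intro φ γ hγ
    rw [hπ, hπ, Finset.sum_mul]
    refine Finset.sum_congr rfl fun u _ => ?_
    simp only [mul_assoc]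
    rw [hγ _ (E.inv_mem u.2)]
  have hπmulZ : ∀ φ, ∀ z ∈ Z, πl (ρ z * φ) = ρ z * πl φ := by
    intro φ z hz
    rw [hπ, hπ, Finset.mul_sum]
    refine Finset.sum_congr rfl fun u _ => ?_
    rw [hcomZ z hz φ, hcomZ z hz, ← mul_assoc (ρ (u : G)) φ, mul_assoc, mul_assoc, mul_assoc, mul_assoc,
      hcomZ z hz]
  have hπ0 : ∀ w ∈ E, w ∉ Z → πl (ρ w) = 0 := by
    intro w hw hwZ
    rw [hπ]
    calc ∑ u : E, ρ (u : G) * ρ w * ρ (u : G)⁻¹
        = (∑ u : E, ρ ((u : G) * w * (u : G)⁻¹ * w⁻¹)) * ρ w := by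
          rw [Finset.sum_mul]
          refine Finset.sum_congr rfl fun u _ => ?_
          rw [← map_mul, ← map_mul, ← map_mul, inv_mul_cancel_right]
      _ = 0 := by rw [hchar0 w hw hwZ, zero_mul]
  have hπ1 : πl 1 = (Nat.card E : k) • (1 : Module.End k V) := by
    rw [hπ, Finset.sum_congr rfl fun (u : E) _ => show ρ (u : G) * 1 * ρ (u : G)⁻¹ = 1 by
      rw [mul_one, ← map_mul, mul_inv_cancel, map_one], Finset.sum_const, Finset.card_univ,
      Nat.card_eq_fintype_card, Nat.cast_smul_eq_nsmul]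
  have hrecon : ∀ φ, (∀ e : E, πl (ρ (e : G)⁻¹ * φ) = 0) → φ = 0 := by
    intro φ h
    have h0 : ∑ e : E, ρ (e : G) * πl (ρ (e : G)⁻¹ * φ) = 0 :=
      Finset.sum_eq_zero fun e _ => by rw [h e, mul_zero]
    have h1 : ∀ u : E, ∑ e : E, ρ (e : G) * (ρ (u : G) * (ρ (e : G)⁻¹ * φ) * ρ (u : G)⁻¹) =
        if (u : G) ∈ Z then (Nat.card E : k) • φ else 0 := by
      intro u
      split_ifs with hu
      · rw [Finset.sum_congr rfl fun (e : E) _ => show ρ (e : G) * (ρ (u : G) * (ρ (e : G)⁻¹ * φ) * ρ (u : G)⁻¹) = φ by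
          rw [hcomZ _ hu, mul_assoc _ (ρ (u : G)), ← map_mul ρ (u : G), mul_inv_cancel, map_one, mul_one,
            ← mul_assoc, ← map_mul, mul_inv_cancel, map_one, one_mul],
          Finset.sum_const, Finset.card_univ, Nat.card_eq_fintype_card, Nat.cast_smul_eq_nsmul]
      · calc _ = (∑ e : E, ρ ((e : G) * u * (e : G)⁻¹ * (u : G)⁻¹)) * (ρ (u : G) * φ * ρ (u : G)⁻¹) := by
              rw [Finset.sum_mul]
              refine Finset.sum_congr rfl fun e _ => ?_
              simp only [map_mul, mul_assoc]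
              rw [← mul_assoc (ρ (u : G)⁻¹) (ρ (u : G)), hρi, one_mul]
          _ = 0 := by rw [hchar0 _ u.2 hu, zero_mul]
    simp only [hπ, Finset.mul_sum] at h0
    rw [Finset.sum_comm, Finset.sum_congr rfl fun u _ => h1 u, Finset.sum_ite, Finset.sum_const_zero, add_zero,
      Finset.sum_const, ← Nat.cast_smul_eq_nsmul k, smul_smul, smul_eq_zero] at h0
    refine h0.resolve_left (mul_ne_zero ?_ hcharE)
    intro hz
    apply hcharE
    have hd : (Finset.univ.filter fun u : E => (u : G) ∈ Z).card ∣ Nat.card E := by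
      have : (Finset.univ.filter fun u : E => (u : G) ∈ Z).card = Nat.card (Z.subgroupOf E) := by
        rw [Nat.card_eq_fintype_card]
        exact (Fintype.card_of_subtype _ fun u => by simp [Subgroup.mem_subgroupOf]).symm
      rw [this]
      exact Subgroup.card_subgroup_dvd_card _
    obtain ⟨d, hd'⟩ := hd
    rw [hd', Nat.cast_mul, hz, zero_mul]
  -- the module M
  letI : CommGroup N := { (inferInstance : Group N) with mul_comm := fun a b => Subtype.ext (hNc _ a.2 _ b.2) }
  have hNq' : ∀ a : Additive N, q • a = 0 := fun a => by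
    apply Additive.toMul.injective
    rw [toMul_nsmul, toMul_zero]
    exact Subtype.ext (hNq _ (Additive.toMul a).2)
  haveI : Module (ZMod q) (Additive N) := AddCommGroup.zmodModule hNq'
  let θ : G →* MulAut N := (MulAut.conjNormal (H := N)).comp π₀
  let τ := autEnd (A := ↥N) q
  have hτ : ∀ (f : MulAut N) (a : N), τ f (Additive.ofMul a) = Additive.ofMul (f a) := autEnd_apply q
  let H := θ.range
  let y : H := ⟨θ x, x, rfl⟩
  let σ : H →* Module.End (ZMod q) (Additive N) := τ.comp H.subtype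
  have hσinj : Function.Injective σ := fun a b h => Subtype.ext (MulEquiv.ext fun n =>
    Additive.ofMul.injective (LinearMap.congr_fun h (Additive.ofMul n)))
  have hθ : ∀ g (n : N), ((θ g n : N) : G ⧸ Z) = π₀ g * n * (π₀ g)⁻¹ := fun g n =>
    MulAut.conjNormal_apply _ _
  let out : N → G := fun m => (QuotientGroup.mk'_surjective Z (m : G ⧸ Z)).choose
  have hout : ∀ m : N, π₀ (out m) = m := fun m => (QuotientGroup.mk'_surjective Z (m : G ⧸ Z)).choose_spec
  have houtE : ∀ m, out m ∈ E := fun m => by rw [Subgroup.mem_comap, hout]; exact m.2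
  have houtZ : ∀ (g : G) (m : N), π₀ g = m → g * (out m)⁻¹ ∈ Z := fun g m h => by
    rw [← hmk, map_mul, map_inv, hout, h, mul_inv_cancel]
  have hnoncyc : ∀ g : G, ¬ N ≤ Subgroup.zpowers (π₀ g) := by
    intro g hle
    apply hne₀
    obtain ⟨i, hi⟩ := hle he₀
    obtain ⟨j, hj⟩ := hle hu₀
    have h1 : e₀ * (g ^ i)⁻¹ ∈ Z := by
      rw [← hmk, map_mul, map_inv, map_zpow, show π₀ g ^ i = π₀ e₀ from hi, mul_inv_cancel]
    have h2 : u₀ * (g ^ j)⁻¹ ∈ Z := by
      rw [← hmk, map_mul, map_inv, map_zpow, show π₀ g ^ j = π₀ u₀ from hj, mul_inv_cancel]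
    rw [mul_inv_eq_one, mul_inv_eq_iff_eq_mul]
    calc e₀ * u₀ = (e₀ * (g ^ i)⁻¹) * g ^ i * ((u₀ * (g ^ j)⁻¹) * g ^ j) := by group
      _ = (u₀ * (g ^ j)⁻¹) * g ^ j * ((e₀ * (g ^ i)⁻¹) * g ^ i) := by
        have c1 : ∀ w, Commute (e₀ * (g ^ i)⁻¹) w := fun w => (hcen _ h1 w).symm
        have c2 : ∀ w, Commute (u₀ * (g ^ j)⁻¹) w := fun w => (hcen _ h2 w).symm
        exact (((c1 _).mul_left ((c2 _).symm)).mul_right
          ((c1 _).mul_left (((Commute.refl g).zpow_zpow i j)))).eq
      _ = u₀ * e₀ := by group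
  have hθx : θ x ≠ 1 := by
    intro h1
    have hker : ∀ g, θ g = 1 := fun g => by
      have : Subgroup.normalClosure {x} ≤ θ.ker := Subgroup.normalClosure_le_normal (by simpa using h1)
      exact this (hgen ▸ Subgroup.mem_top g)
    obtain ⟨m, hmN, hm1⟩ : ∃ m ∈ N, m ≠ 1 := by
      by_contra hcon; push Not at hcon
      exact hNb ((Subgroup.eq_bot_iff_forall _).2 hcon)
    obtain ⟨g, rfl⟩ := QuotientGroup.mk'_surjective Z m
    have hcl : ∀ h : G, π₀ h * π₀ g * (π₀ h)⁻¹ = π₀ g := fun h => by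
      have := hθ h ⟨π₀ g, hmN⟩
      rw [hker] at this
      exact this.symm
    have hnor : (Subgroup.zpowers (π₀ g)).Normal := ⟨fun n hn a => by
      obtain ⟨i, rfl⟩ := hn
      obtain ⟨h, rfl⟩ := QuotientGroup.mk'_surjective Z a
      refine ⟨i, ?_⟩
      change _ = π₀ h * π₀ g ^ i * (π₀ h)⁻¹
      rw [← conj_zpow, hcl]⟩
    rcases hmin _ hnor (Subgroup.zpowers_le.2 hmN) with h | h
    · exact hm1 (Subgroup.zpowers_eq_bot.1 h)
    · exact hnoncyc g h.ge
  have hy1 : y ≠ 1 := fun h => hθx (congrArg Subtype.val h)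
  have hyp : y ^ p = 1 := Subtype.ext (by
    rw [Subgroup.coe_pow, Subgroup.coe_one]; change θ x ^ p = 1; rw [← map_pow, hx, map_one])
  have hygen : Subgroup.normalClosure {y} = ⊤ := by
    have h := Subgroup.map_normalClosure {x} θ.rangeRestrict θ.rangeRestrict_surjective
    rw [hgen, Subgroup.map_top_of_surjective _ θ.rangeRestrict_surjective, Set.image_singleton] at h
    exact h.symm
  haveI : Group.IsSolvable H := Group.isSolvable_of_surjective θ.rangeRestrict_surjective
  have hcard : Nat.card H < Nat.card G := by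
    have h1 : Nat.card θ.ker * θ.ker.index = Nat.card G := Subgroup.card_mul_index _
    rw [θ.ker.index_eq_card, Nat.card_congr (QuotientGroup.quotientKerEquivRange θ).toEquiv] at h1
    rw [← h1]
    refine lt_mul_of_one_lt_left Nat.card_pos (Subgroup.one_lt_card_iff_ne_bot _ |>.2 fun hb => hne₀ ?_)
    have : e₀ * u₀ * e₀⁻¹ * u₀⁻¹ ∈ θ.ker := by
      rw [MonoidHom.mem_ker]
      change MulAut.conjNormal (π₀ _) = 1
      rw [(hmk _).2 (hcommZ _ he₀ _ hu₀), map_one]
    rwa [hb, Subgroup.mem_bot] at this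
  have hσirr : Irr σ := by
    intro W hW
    let W' : Subgroup (G ⧸ Z) := (AddSubgroup.toSubgroup' W.toAddSubgroup).map N.subtype
    have hW'n : W'.Normal := ⟨fun n hn a => by
      obtain ⟨w, hw, rfl⟩ := hn
      obtain ⟨h, rfl⟩ := QuotientGroup.mk'_surjective Z a
      exact ⟨θ h w, hW ⟨θ h, h, rfl⟩ (Additive.ofMul w) hw, hθ h w⟩⟩
    rcases hmin W' hW'n (fun n ⟨w, _, hw⟩ => hw ▸ w.2) with h | h
    · left
      rw [eq_bot_iff]
      intro w hw
      have : ((Additive.toMul w : N) : G ⧸ Z) ∈ W' := ⟨_, hw, rfl⟩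
      rw [h, Subgroup.mem_bot] at this
      rw [Submodule.mem_bot]
      exact Additive.toMul.injective (Subtype.ext this)
    · right
      rw [eq_top_iff]
      intro w _
      obtain ⟨w', hw', heq⟩ := (h.ge (Additive.toMul w).2 : ((Additive.toMul w : N) : G ⧸ Z) ∈ W')
      have : w' = Additive.toMul w := Subtype.ext heq
      rw [this] at hw'
      exact hw'
  haveI : Finite (Additive N) := inferInstanceAs (Finite N)
  haveI : Nontrivial N := (Subgroup.nontrivial_iff_ne_bot N).2 hNb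
  have hb2 := hrec H hcard y hyp hy1 hygen q (Additive N) σ hσinj hσirr
  set a := Module.finrank (ZMod q) (Additive N)
  set b := Module.finrank (ZMod q) (fixSub σ y)
  have hMcard : Nat.card N = q ^ a := by
    have := Module.natCard_eq_pow_finrank (K := ZMod q) (V := Additive N)
    rwa [Nat.card_zmod] at this
  have hfixcard : Nat.card {m : N // θ x m = m} = q ^ b := by
    have := Module.natCard_eq_pow_finrank (K := ZMod q) (V := fixSub σ y)
    rw [Nat.card_zmod] at this
    rw [← this]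
    exact Nat.card_congr (Additive.ofMul.subtypeEquiv fun m => by
      rw [mem_fixSub]; exact ⟨fun h => congrArg Additive.ofMul h, fun h => Additive.ofMul.injective h⟩)
  have ha2 : 2 ≤ a := by
    by_contra hcon
    have hle : Nat.card N ≤ q := by
      rw [hMcard]; calc q ^ a ≤ q ^ 1 := Nat.pow_le_pow_right hq.pos (by omega)
        _ = q := pow_one q
    obtain ⟨m, hmN, hm1⟩ : ∃ m ∈ N, m ≠ 1 := by
      by_contra hc; push Not at hc
      exact hNb ((Subgroup.eq_bot_iff_forall _).2 hc)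
    obtain ⟨g, rfl⟩ := QuotientGroup.mk'_surjective Z m
    refine hnoncyc g (ge_of_eq (Subgroup.eq_of_le_of_card_ge (Subgroup.zpowers_le.2 hmN) ?_))
    rw [Nat.card_zpowers, orderOf_eq_prime (hNq _ hmN) hm1]
    exact hle
  -- orbits
  let pm : Equiv.Perm N := (θ x).toEquiv
  have hpm : pm ^ p = 1 := by
    have : ∀ i, pm ^ i = ((θ x) ^ i).toEquiv := by
      intro i; induction i with
      | zero => rfl
      | succ i ih => rw [pow_succ, pow_succ, ih]; rfl
    rw [this, ← map_pow, hx, map_one]; rfl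
  haveI : Fintype N := Fintype.ofFinite N
  obtain ⟨S, hS, hScard⟩ := exists_reps hp pm hpm
  have hmod : q ^ a ≡ q ^ b [MOD p] := by
    haveI : Fact p.Prime := ⟨hp⟩
    let mh : Subgroup.zpowers pm →* Equiv.Perm N := (Subgroup.zpowers pm).subtype
    have hP : IsPGroup p (Subgroup.zpowers pm) := by
      refine fun g => ⟨1, Subtype.ext ?_⟩
      obtain ⟨i, hi⟩ := g.2
      rw [pow_one, Subgroup.coe_pow, ← hi]
      change (pm ^ i) ^ p = 1
      rw [← zpow_natCast, ← zpow_mul, mul_comm, zpow_mul, zpow_natCast, hpm, one_zpow]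
    have h := hP.card_modEq_card_fixedPoints (α := N)
    rw [hMcard] at h
    suffices heq : Nat.card (MulAction.fixedPoints (Subgroup.zpowers pm) N) = q ^ b by rwa [heq] at h
    rw [← hfixcard]
    refine Nat.card_congr (Equiv.subtypeEquivRight fun m => ⟨fun hm => hm ⟨pm, Subgroup.mem_zpowers pm⟩,
      fun hm g => ?_⟩)
    obtain ⟨i, hi⟩ := g.2
    change (g : Equiv.Perm N) m = m
    rw [← hi]
    exact Function.IsFixedPt.perm_zpow hm i
  have h4S : 4 * S.card ≤ Nat.card N := by
    have hfix' : Nat.card {m : N // pm m = m} = q ^ b := hfixcard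
    rw [hfix', hMcard] at hScard
    have h1 : b + 2 ≤ a := by omega
    have h2 := pow_ratio_sq hp hp3 hq h1 hmod
    rw [hMcard]
    refine Nat.le_of_mul_le_mul_left ?_ hp.pos
    calc p * (4 * S.card) = 4 * (p * S.card) := by ring
      _ ≤ 4 * (q ^ a + (p - 1) * q ^ b) := Nat.mul_le_mul_left _ hScard
      _ ≤ _ := h2
  -- the two linear maps
  have hΦ : Nat.card N * Module.finrank k C ≤ Module.finrank k (Module.End k V) := by
    let Φ : (N → C) →ₗ[k] Module.End k V :=
      ∑ m : N, LinearMap.mulLeft k (ρ (out m)) ∘ₗ C.subtype ∘ₗ LinearMap.proj m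
    have hΦi : Function.Injective Φ := by
      rw [injective_iff_map_eq_zero]
      intro γ hγ
      funext m
      refine Subtype.ext ?_
      have h0 : ∑ m' : N, ρ (out m') * (γ m' : Module.End k V) = 0 := by
        simpa [Φ, LinearMap.sum_apply] using hγ
      have h1 := congrArg (fun φ => πl (ρ (out m)⁻¹ * φ)) h0
      simp only [Finset.mul_sum, map_sum, mul_zero, map_zero] at h1
      rw [Finset.sum_eq_single m] at h1
      · rw [← mul_assoc, hρi, hπmulC _ _ (γ m).2, hπ1, smul_mul_assoc, one_mul, smul_eq_zero] at h1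
        exact h1.resolve_left hcharE
      · intro m' _ hne
        rw [← mul_assoc, hπmulC _ _ (γ m').2, ← map_mul]
        rw [hπ0 _ (E.mul_mem (E.inv_mem (houtE m)) (houtE m')) (fun hz => hne ?_), zero_mul]
        rw [← hmk, map_mul, map_inv, hout, hout, inv_mul_eq_one] at hz
        exact (Subtype.ext hz).symm
      · exact fun h => absurd (Finset.mem_univ m) h
    have := LinearMap.finrank_le_finrank_of_injective hΦi
    rwa [Module.finrank_pi_fintype, Finset.sum_const, Finset.card_univ, smul_eq_mul,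
      ← Nat.card_eq_fintype_card] at this
  let T : Module.End k V := ρ x - 1
  let Cx : Submodule k (Module.End k V) :=
    { carrier := {φ | ρ x * φ = φ * ρ x}
      zero_mem' := by rw [Set.mem_setOf_eq, mul_zero, zero_mul]
      add_mem' := fun {α β} (ha : ρ x * α = α * ρ x) (hb : ρ x * β = β * ρ x) => by
        rw [Set.mem_setOf_eq, mul_add, add_mul, ha, hb]
      smul_mem' := fun c φ (h : ρ x * φ = φ * ρ x) => by
        rw [Set.mem_setOf_eq, mul_smul_comm, smul_mul_assoc, h] }
  have hup : Module.finrank k Cx ≤ S.card * Module.finrank k C := by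
    let Ψ : Cx →ₗ[k] (S → C) := LinearMap.pi fun m : S =>
      (πl ∘ₗ LinearMap.mulLeft k (ρ (out m.1)⁻¹) ∘ₗ Cx.subtype).codRestrict C fun φ => hπC _
    have hΨ : Function.Injective Ψ := by
      rw [injective_iff_map_eq_zero]
      intro φ hφ
      refine Subtype.ext (hrecon _ fun e => ?_)
      have hzero : ∀ (g : G) (m : N), π₀ g = m →
          πl (ρ (out m)⁻¹ * (φ : Module.End k V)) = 0 → πl (ρ g⁻¹ * (φ : Module.End k V)) = 0 := by
        intro g m hg h
        have hz := Z.inv_mem (houtZ g m hg)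
        have hg' : g⁻¹ = (g * (out m)⁻¹)⁻¹ * (out m)⁻¹ := by
          have hc := hcen _ hz (out m)⁻¹
          rw [← hc]; group
        rw [hg', map_mul ρ, mul_assoc, hπmulZ _ _ hz, h, mul_zero]
      let O : Set N := {m | πl (ρ (out m)⁻¹ * (φ : Module.End k V)) = 0}
      have hO : ∀ i : ℕ, ∀ m ∈ O, (pm ^ i) m ∈ O := by
        intro i
        induction i with
        | zero => exact fun m hm => hm
        | succ i ih =>
          intro m hm
          rw [pow_succ, Equiv.Perm.mul_apply]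
          refine ih _ ?_
          have hg : π₀ (x * out m * x⁻¹) = ((pm m : N) : G ⧸ Z) := by
            rw [map_mul, map_mul, map_inv, hout]; exact (hθ x m).symm
          have h1 : πl (ρ (x * out m * x⁻¹)⁻¹ * (φ : Module.End k V)) = 0 := by
            have hc : ρ x * (φ : Module.End k V) = φ * ρ x := φ.2
            have h2 : (φ : Module.End k V) * ρ x⁻¹ = ρ x⁻¹ * φ := by
              calc (φ : Module.End k V) * ρ x⁻¹ = ρ x⁻¹ * (ρ x * φ) * ρ x⁻¹ := by
                    rw [← mul_assoc, hρi, one_mul]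
                _ = _ := by rw [hc, mul_assoc, mul_assoc, ← map_mul ρ x, mul_inv_cancel, map_one, mul_one]
            have h3 : ρ (x * out m * x⁻¹)⁻¹ * (φ : Module.End k V) =
                ρ x * (ρ (out m)⁻¹ * φ) * ρ x⁻¹ := by
              simp only [mul_inv_rev, inv_inv, map_mul, mul_assoc]
              rw [h2]
            rw [h3, ← hπconj, (show πl (ρ (out m)⁻¹ * (φ : Module.End k V)) = 0 from hm), mul_zero, zero_mul]
          have hz := houtZ _ _ hg
          have hg' : (out (pm m))⁻¹ = ((x * out m * x⁻¹) * (out (pm m))⁻¹) * (x * out m * x⁻¹)⁻¹ := by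
            rw [← hcen _ hz]; group
          change πl (ρ (out (pm m))⁻¹ * (φ : Module.End k V)) = 0
          rw [hg', map_mul ρ, mul_assoc, hπmulZ _ _ hz, h1, mul_zero]
      obtain ⟨s, hs, i, hi⟩ := hS (⟨π₀ (e : G), e.2⟩ : N)
      refine hzero (e : G) ⟨π₀ (e : G), e.2⟩ rfl ?_
      rw [← hi]
      exact hO i s (congrArg Subtype.val (congrFun hφ ⟨s, hs⟩))
    have := LinearMap.finrank_le_finrank_of_injective hΨ
    rwa [Module.finrank_pi_fintype, Finset.sum_const, Finset.card_univ, smul_eq_mul,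
      Fintype.card_coe] at this
  have hlow : Module.finrank k (fixSub ρ x) * Module.finrank k (fixSub ρ x) + 1 ≤ Module.finrank k Cx := by
    let emb : ((V ⧸ LinearMap.range T) →ₗ[k] fixSub ρ x) →ₗ[k] Module.End k V :=
      (LinearMap.compRight k (fixSub ρ x).subtype) ∘ₗ LinearMap.lcomp k (fixSub ρ x) (LinearMap.range T).mkQ
    have hemb : ∀ h v, emb h v = (h ((LinearMap.range T).mkQ v) : V) := fun _ _ => rfl
    have hTe : ∀ h, T * emb h = 0 := fun h => LinearMap.ext fun v => by
      rw [Module.End.mul_apply, hemb]; exact (h _).2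
    have heT : ∀ h, emb h * T = 0 := fun h => LinearMap.ext fun v => by
      rw [Module.End.mul_apply, hemb, Submodule.mkQ_apply, (Submodule.Quotient.mk_eq_zero (LinearMap.range T)).2 ⟨v, rfl⟩,
        map_zero]; rfl
    have hρT : ρ x = T + 1 := (sub_add_cancel _ _).symm
    let F : ((V ⧸ LinearMap.range T) →ₗ[k] fixSub ρ x) × k →ₗ[k] Cx :=
      (LinearMap.coprod emb (LinearMap.toSpanSingleton k _ 1)).codRestrict Cx fun w => by
        change ρ x * (emb w.1 + w.2 • 1) = (emb w.1 + w.2 • 1) * ρ x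
        rw [mul_add, add_mul, mul_smul_comm, smul_mul_assoc, mul_one, one_mul, hρT, add_mul, mul_add,
          hTe, heT, one_mul, mul_one]
    have hF : Function.Injective F := by
      rw [injective_iff_map_eq_zero]
      rintro ⟨h, c⟩ hw
      have hw' : emb h + c • (1 : Module.End k V) = 0 := congrArg Subtype.val hw
      have hc : c = 0 := by
        have h1 := congrArg (· * T) hw'
        simp only [add_mul, heT, smul_mul_assoc, one_mul, zero_mul, zero_add, smul_eq_zero] at h1
        exact h1.resolve_right hT0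
      subst hc
      rw [zero_smul, add_zero] at hw'
      refine Prod.ext (LinearMap.ext fun v' => ?_) rfl
      obtain ⟨v, rfl⟩ := Submodule.mkQ_surjective _ v'
      exact Subtype.ext (LinearMap.congr_fun hw' v)
    have hle := LinearMap.finrank_le_finrank_of_injective hF
    have hc : Module.finrank k (V ⧸ LinearMap.range T) = Module.finrank k (fixSub ρ x) := by
      have h1 := T.finrank_range_add_finrank_ker
      have h2 := (LinearMap.range T).finrank_quotient_add_finrank
      change _ = Module.finrank k (LinearMap.ker T)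
      omega
    rwa [Module.finrank_prod, Module.finrank_linearMap, Module.finrank_self, hc] at hle
  rw [Module.finrank_linearMap] at hΦ
  by_contra hcon
  push Not at hcon
  have h5 : Module.finrank k V * Module.finrank k V ≤
      (2 * Module.finrank k (fixSub ρ x)) * (2 * Module.finrank k (fixSub ρ x)) := Nat.mul_le_mul hcon hcon
  have h6 : 4 * (S.card * Module.finrank k C) ≤ Nat.card N * Module.finrank k C := by
    rw [← mul_assoc]; exact Nat.mul_le_mul_right _ h4S
  nlinarith [h5, h6, hΦ, hup, hlow]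

end Cfsg.Agent.FixedHalf
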