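import Mathlib
import Cfsg.Agent.FixedHalf.Extra

/-!
An element of prime order at least five whose conjugates generate a solvable group fixes less than
half of every faithful irreducible module.
-/

set_option autoImplicit false
set_option maxHeartbeats 1000000

namespace Cfsg.Agent.FixedHalf

universe u v w

/-- The central case, after enlarging the field to contain the scalars of the center. -/
theorem half_descend {G : Type u} [Group G] [Finite G] [Group.IsSolvable G] {p : ℕ} (hp : p.Prime)
    (hp3 : 3 < p) (x : G) (hx : x ^ p = 1) (hgen : Subgroup.normalClosure {x} = ⊤)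
    (hxc : x ∉ Subgroup.center G)
    {k K V : Type*} [Field k] [Field K] [Algebra k K] [AddCommGroup V] [Module k V] [Module K V]
    [IsScalarTower k K V] [FiniteDimensional k V]
    (ρ : G →* Module.End k V) (hinj : Function.Injective ρ)
    (hlin : ∀ (g : G) (c : K) (v : V), ρ g (c • v) = c • ρ g v)
    (hsc : ∀ z ∈ Subgroup.center G, ∃ c : K, ∀ v, ρ z v = c • v)
    (hab : ∀ A : Subgroup G, A.Normal → (∀ a ∈ A, ∀ b ∈ A, a * b = b * a) → A ≤ Subgroup.center G)
    (hrec : Rec G p) :
    2 * Module.finrank k (fixSub ρ x) < Module.finrank k V := by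
  haveI : FiniteDimensional K V := Module.Finite.of_restrictScalars_finite k K V
  let σ : G →* Module.End K V :=
    { toFun := fun g => { toFun := ρ g, map_add' := map_add (ρ g), map_smul' := hlin g }
      map_one' := LinearMap.ext fun v => by simp
      map_mul' := fun g h => LinearMap.ext fun v => by simp }
  have hσ : ∀ g v, σ g v = ρ g v := fun _ _ => rfl
  have hσinj : Function.Injective σ := fun g h e =>
    hinj (LinearMap.ext fun v => LinearMap.congr_fun e v)
  have h := half_of_central hp hp3 x hx hgen hxc σ hσinj hab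
    (fun z hz => by
      obtain ⟨c, hc⟩ := hsc z hz
      exact ⟨c, LinearMap.ext fun v => hc v⟩) hrec
  have hfix : fixSub ρ x = (fixSub σ x).restrictScalars k := by
    ext v
    rw [Submodule.restrictScalars_mem, mem_fixSub, mem_fixSub, hσ]
  haveI : Nontrivial V := Module.nontrivial_of_finrank_pos (R := K) (by omega)
  haveI : FiniteDimensional k K := FiniteDimensional.left k K V
  have h1 : Module.finrank k K * Module.finrank K V = Module.finrank k V := Module.finrank_mul_finrank k K V
  have h2 : Module.finrank k K * Module.finrank K (fixSub σ x) = Module.finrank k ((fixSub σ x).restrictScalars k) :=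
    Module.finrank_mul_finrank k K (fixSub σ x)
  rw [hfix, ← h1, ← h2, mul_left_comm]
  exact Nat.mul_lt_mul_of_pos_left h Module.finrank_pos

/-- The inductive step. -/
theorem half_step {G : Type u} [Group G] [Finite G] [Group.IsSolvable G] {p : ℕ} (hp : p.Prime)
    (hp3 : 3 < p) (x : G) (hx : x ^ p = 1) (hx1 : x ≠ 1) (hgen : Subgroup.normalClosure {x} = ⊤)
    (hrec : Rec G p)
    {k : Type v} {V : Type w} [Field k] [AddCommGroup V] [Module k V] [FiniteDimensional k V] [Nontrivial V]
    (ρ : G →* Module.End k V) (hinj : Function.Injective ρ) (hirr : Irr ρ) :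
    2 * Module.finrank k (fixSub ρ x) < Module.finrank k V := by
  classical
  by_cases hA : ∃ A : Subgroup G, A.Normal ∧ (∀ a ∈ A, ∀ b ∈ A, a * b = b * a) ∧ ¬ A ≤ Subgroup.center G
  · obtain ⟨A, hAn, hAc, hAz⟩ := hA
    haveI := hAn
    exact half_of_abelian hp hp3 x hx hgen ρ hinj hirr A hAc hAz
  have hab : ∀ A : Subgroup G, A.Normal → (∀ a ∈ A, ∀ b ∈ A, a * b = b * a) → A ≤ Subgroup.center G :=
    fun A h1 h2 => by_contra fun h3 => hA ⟨A, h1, h2, h3⟩
  by_cases hxc : x ∈ Subgroup.center G
  · rcases hirr (fixSub ρ x) (fun g w hw => by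
      rw [mem_fixSub] at hw ⊢
      rw [← Module.End.mul_apply, ← map_mul, ← Subgroup.mem_center_iff.1 hxc g, map_mul,
        Module.End.mul_apply, hw]) with h | h
    · rw [h, finrank_bot, mul_zero]
      exact Module.finrank_pos
    · refine absurd (hinj (LinearMap.ext fun v => ?_)) hx1
      rw [map_one, Module.End.one_apply]
      exact mem_fixSub.1 (h ▸ Submodule.mem_top)
  let s : Set (Module.End k V) := ρ '' (Subgroup.center G : Set G)
  let K : Subalgebra k (Module.End k V) := Algebra.adjoin k s
  have hcK : ∀ (g : G), ∀ φ ∈ K, ρ g * φ = φ * ρ g := by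
    intro g φ hφ
    have hle : K ≤ Subalgebra.centralizer k {ρ g} := Algebra.adjoin_le (by
      rintro _ ⟨z, hz, rfl⟩
      rw [SetLike.mem_coe, Subalgebra.mem_centralizer_iff]
      rintro _ rfl
      rw [← map_mul, ← map_mul, Subgroup.mem_center_iff.1 hz g])
    exact (Subalgebra.mem_centralizer_iff k).1 (hle hφ) _ rfl
  have hcomm : ∀ a ∈ s, ∀ b ∈ s, a * b = b * a := by
    rintro _ ⟨a, ha, rfl⟩ _ ⟨b, _, rfl⟩
    rw [← map_mul, ← map_mul, Subgroup.mem_center_iff.1 ha b]
  haveI hKc : IsMulCommutative K := Algebra.isMulCommutative_adjoin k hcomm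
  letI : CommRing K := { (inferInstance : Ring K) with mul_comm := fun a b => hKc.is_comm.comm a b }
  haveI : Nontrivial K := ⟨⟨0, 1, fun h => by
    obtain ⟨v, hv⟩ := exists_ne (0 : V)
    exact hv (LinearMap.congr_fun (congrArg Subtype.val h) v).symm⟩⟩
  haveI : NoZeroDivisors K := ⟨fun {a b} h => by
    rcases schur hirr (a : Module.End k V) (fun g => hcK g _ a.2) with h0 | h0
    · exact Or.inl (Subtype.ext h0)
    · refine Or.inr (Subtype.ext (LinearMap.ext fun v => h0 ?_))
      rw [← Module.End.mul_apply, ← Subalgebra.coe_mul, h]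
      simp⟩
  haveI : IsDomain K := NoZeroDivisors.to_isDomain K
  haveI : FiniteDimensional k K := FiniteDimensional.finiteDimensional_submodule (Subalgebra.toSubmodule K)
  letI : Field K := fieldOfFiniteDimensional k K
  exact half_descend hp hp3 x hx hgen hxc (K := K) ρ hinj
    (fun g c v => LinearMap.congr_fun (hcK g c c.2) v)
    (fun z hz => ⟨⟨ρ z, Algebra.subset_adjoin ⟨z, hz, rfl⟩⟩, fun v => rfl⟩) hab hrec

theorem rec_all (p : ℕ) (hp : p.Prime) (hp3 : 3 < p) :
    ∀ (n : ℕ) (G : Type u) [Group G] [Finite G], Nat.card G = n → Rec G p := by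
  intro n
  induction n using Nat.strong_induction_on with
  | _ n ih =>
    intro G _ _ hn H _ _ _ hlt y hy hy1 hgen q _ W _ _ _ _ σ hinj hirr
    exact half_step hp hp3 y hy hy1 hgen (ih _ (hn ▸ hlt) H rfl) σ hinj hirr

/-- An element of prime order at least five generating a solvable group as a normal subgroup fixes less
than half of a faithful irreducible module. -/
theorem half {G : Type u} [Group G] [Finite G] [Group.IsSolvable G] {p : ℕ} (hp : p.Prime)
    (hp3 : 3 < p) (x : G) (hx : x ^ p = 1) (hx1 : x ≠ 1) (hgen : Subgroup.normalClosure {x} = ⊤)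
    {k : Type v} {V : Type w} [Field k] [AddCommGroup V] [Module k V] [FiniteDimensional k V] [Nontrivial V]
    (ρ : G →* Module.End k V) (hinj : Function.Injective ρ) (hirr : Irr ρ) :
    2 * Module.finrank k (fixSub ρ x) < Module.finrank k V :=
  half_step hp hp3 x hx hx1 hgen (rec_all p hp hp3 _ G rfl) ρ hinj hirr

end Cfsg.Agent.FixedHalf
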