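import Mathlib
import Cfsg.Agent.FixedHalf.Main
import Cfsg.Agent.Layer.PConstraint
import Cfsg.Agent.Coprime.PCoreTools
import Cfsg.Agent.Core.Frattini

/-!
Maximal solvable subgroups generated by two conjugates of a subgroup of prime order at least five:
the Fitting subgroup centralises every nilpotent subgroup of coprime order that they normalise.
-/

set_option autoImplicit false
set_option maxHeartbeats 1000000

namespace Cfsg.Agent.FixedHalf

open scoped commutatorElement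

variable {G : Type*} [Group G] [Finite G]

/-- The map induced on `V / U` by conjugation. -/
theorem exists_quotient_action (A V U : Subgroup G) (hV : A ≤ Subgroup.normalizer (V : Set G))
    (hU : A ≤ Subgroup.normalizer (U : Set G)) [(U.subgroupOf V).Normal] :
    ∃ φ : A →* MulAut (↥V ⧸ U.subgroupOf V), ∀ (a : A) (v : V) (h : (a : G) * v * (a : G)⁻¹ ∈ V),
      φ a (QuotientGroup.mk v) = QuotientGroup.mk (⟨(a : G) * v * (a : G)⁻¹, h⟩ : V) := by
  let c : A →* MulAut V := (V.normalizerMonoidHom).comp (Subgroup.inclusion hV)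
  have hc : ∀ (a : A) (v : V), (c a v : G) = (a : G) * v * (a : G)⁻¹ := fun _ _ => rfl
  have hle : ∀ a : A, (U.subgroupOf V).map (c a).toMonoidHom = U.subgroupOf V := by
    intro a
    ext w
    rw [Subgroup.mem_map_equiv, Subgroup.mem_subgroupOf, Subgroup.mem_subgroupOf]
    have h : (c a ((c a).symm w) : G) = w := by rw [MulEquiv.apply_symm_apply]
    rw [← h, hc]
    exact Subgroup.mem_normalizer_iff.1 (hU a.2) _
  refine ⟨{ toFun := fun a => QuotientGroup.congr _ _ (c a) (hle a)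
            map_one' := ?_
            map_mul' := fun a b => ?_ }, fun a v h => ?_⟩
  · refine MulEquiv.ext fun w => ?_
    induction w using QuotientGroup.induction_on with
    | H v => simp
  · refine MulEquiv.ext fun w => ?_
    induction w using QuotientGroup.induction_on with
    | H v => exact congrArg QuotientGroup.mk (by rw [map_mul]; rfl)
  · exact congrArg QuotientGroup.mk (Subtype.ext (hc a v))

/-- A module on which half of the dimension is exceeded cannot be covered by two translates of the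
fixed points. -/
theorem not_covered {p s : ℕ} (hp : p.Prime) (hp3 : 3 < p) [Fact s.Prime]
    (A V U : Subgroup G) [Group.IsSolvable A] (π a : G) (hπA : π ∈ A) (haA : a ∈ A) (hπp : π ^ p = 1)
    (hgen : Subgroup.normalClosure {(⟨π, hπA⟩ : A)} = ⊤)
    (hV : A ≤ Subgroup.normalizer (V : Set G)) (hU : A ≤ Subgroup.normalizer (U : Set G))
    (hUV : U ≤ V) (hne : U ≠ V)
    (hcomm : ∀ v ∈ V, ∀ w ∈ V, v * w * v⁻¹ * w⁻¹ ∈ U) (hpow : ∀ v ∈ V, v ^ s ∈ U)
    (hact : ∃ v ∈ V, v * π * v⁻¹ * π⁻¹ ∉ U)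
    (hirr : ∀ W : Subgroup G, U ≤ W → W ≤ V → A ≤ Subgroup.normalizer (W : Set G) → W = U ∨ W = V)
    (hcov : ∀ v ∈ V, ∃ c₁ ∈ V, ∃ c₂ ∈ V, c₁ * π * c₁⁻¹ * π⁻¹ ∈ U ∧ c₂ * π * c₂⁻¹ * π⁻¹ ∈ U ∧
      v = a⁻¹ * c₁ * a * c₂) : False := by
  classical
  haveI hn : (U.subgroupOf V).Normal := by
    refine ⟨fun u hu v => ?_⟩
    rw [Subgroup.mem_subgroupOf] at hu ⊢
    have h := U.mul_mem (hcomm v v.2 u (hUV hu)) hu
    simpa using h
  obtain ⟨φ, hφ⟩ := exists_quotient_action A V U hV hU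
  let M := ↥V ⧸ U.subgroupOf V
  letI : CommGroup M :=
    { (inferInstance : Group M) with
      mul_comm := fun x y => by
        induction x using QuotientGroup.induction_on with
        | H v =>
        induction y using QuotientGroup.induction_on with
        | H w =>
        rw [← QuotientGroup.mk_mul, ← QuotientGroup.mk_mul, QuotientGroup.eq, Subgroup.mem_subgroupOf]
        have h := hcomm _ (V.inv_mem w.2) _ (V.inv_mem v.2)
        simpa [mul_assoc] using h }
  have hexp : ∀ m : Additive M, s • m = 0 := fun m => by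
    apply Additive.toMul.injective
    rw [toMul_nsmul, toMul_zero]
    induction Additive.toMul m using QuotientGroup.induction_on with
    | H v =>
      rw [← QuotientGroup.mk_pow, QuotientGroup.eq_one_iff, Subgroup.mem_subgroupOf]
      exact hpow v v.2
  haveI : Module (ZMod s) (Additive M) := AddCommGroup.zmodModule hexp
  let θ : A →* MulAut M := φ
  let H := θ.range
  let σ : H →* Module.End (ZMod s) (Additive M) := (autEnd s).comp H.subtype
  let y : H := θ.rangeRestrict ⟨π, hπA⟩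
  haveI : Group.IsSolvable H := Group.isSolvable_of_surjective θ.rangeRestrict_surjective
  haveI : Finite (Additive M) := inferInstanceAs (Finite M)
  have hfix : ∀ v : V, θ ⟨π, hπA⟩ (QuotientGroup.mk v) = QuotientGroup.mk v ↔ (v : G) * π * (v : G)⁻¹ * π⁻¹ ∈ U := by
    intro v
    have hm : π * v * π⁻¹ ∈ V := (Subgroup.mem_normalizer_iff.1 (hV hπA) _).1 v.2
    rw [hφ ⟨π, hπA⟩ v hm, eq_comm, QuotientGroup.eq, Subgroup.mem_subgroupOf]
    change (v : G)⁻¹ * (π * v * π⁻¹) ∈ U ↔ _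
    have hvn : ∀ (w : V) (u : G), u ∈ U → (w : G) * u * (w : G)⁻¹ ∈ U := fun w u hu => by
      simpa using U.mul_mem (hcomm w w.2 u (hUV hu)) hu
    constructor
    · intro h
      have h2 := U.inv_mem (hvn v _ h)
      simpa [mul_assoc] using h2
    · intro h
      have h2 := U.inv_mem (hvn v⁻¹ _ h)
      simpa [mul_assoc] using h2
  have hy1 : y ≠ 1 := fun h => by
    obtain ⟨v, hv, hvU⟩ := hact
    apply hvU
    have h' : θ ⟨π, hπA⟩ = 1 := congrArg Subtype.val h
    exact (hfix ⟨v, hv⟩).1 (by rw [h']; rfl)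
  have hyp : y ^ p = 1 := by
    change θ.rangeRestrict _ ^ p = 1
    rw [← map_pow, show (⟨π, hπA⟩ : A) ^ p = 1 from Subtype.ext hπp, map_one]
  have hygen : Subgroup.normalClosure {y} = ⊤ := by
    have h := Subgroup.map_normalClosure {(⟨π, hπA⟩ : A)} θ.rangeRestrict θ.rangeRestrict_surjective
    rw [hgen, Subgroup.map_top_of_surjective _ θ.rangeRestrict_surjective, Set.image_singleton] at h
    exact h.symm
  haveI : Nontrivial (Additive M) := by
    obtain ⟨v, hvV, hvU⟩ := SetLike.exists_of_lt (lt_of_le_of_ne hUV hne)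
    exact ⟨⟨Additive.ofMul (QuotientGroup.mk (⟨v, hvV⟩ : V)), 0, fun h =>
      hvU ((QuotientGroup.eq_one_iff (⟨v, hvV⟩ : V)).1 (Additive.ofMul.injective h))⟩⟩
  have hσinj : Function.Injective σ := fun g h e => Subtype.ext (MulEquiv.ext fun m =>
    Additive.ofMul.injective (LinearMap.congr_fun e (Additive.ofMul m)))
  have hσirr : Irr σ := by
    intro W hW
    let W' : Subgroup G := ((AddSubgroup.toSubgroup' W.toAddSubgroup).comap (QuotientGroup.mk' (U.subgroupOf V))).map V.subtype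
    have hUW : U ≤ W' := fun u hu => ⟨⟨u, hUV hu⟩, by
      change Additive.ofMul (QuotientGroup.mk (⟨u, hUV hu⟩ : V)) ∈ W
      rw [(QuotientGroup.eq_one_iff (⟨u, hUV hu⟩ : V)).2 hu]
      exact W.zero_mem, rfl⟩
    have hWn : A ≤ Subgroup.normalizer (W' : Set G) := by
      refine Subgroup.le_normalizer_iff.2 ?_
      rintro b hb _ ⟨v, hv, rfl⟩
      have hm : b * v * b⁻¹ ∈ V := (Subgroup.mem_normalizer_iff.1 (hV hb) _).1 v.2
      refine ⟨⟨b * v * b⁻¹, hm⟩, ?_, rfl⟩
      change Additive.ofMul (QuotientGroup.mk (⟨b * v * b⁻¹, hm⟩ : V)) ∈ W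
      rw [← hφ ⟨b, hb⟩ v hm]
      exact hW ⟨θ ⟨b, hb⟩, ⟨b, hb⟩, rfl⟩ _ hv
    rcases hirr W' hUW (Subgroup.map_subtype_le _) hWn with h | h
    · left
      rw [eq_bot_iff]
      intro w hw
      obtain ⟨v, hv⟩ := QuotientGroup.mk_surjective (Additive.toMul w)
      have hmem : (v : G) ∈ W' := ⟨v, by
        change Additive.ofMul (QuotientGroup.mk v) ∈ W
        rw [hv]
        exact hw, rfl⟩
      rw [h] at hmem
      rw [Submodule.mem_bot]
      apply Additive.toMul.injective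
      rw [← hv, toMul_zero]
      exact (QuotientGroup.eq_one_iff v).2 hmem
    · right
      rw [eq_top_iff]
      intro w _
      obtain ⟨v, hv⟩ := QuotientGroup.mk_surjective (Additive.toMul w)
      obtain ⟨v', hv', hvv⟩ := h.ge v.2
      rw [show v' = v from Subtype.ext hvv] at hv'
      have : Additive.ofMul (QuotientGroup.mk v : M) ∈ W := hv'
      rwa [hv] at this
  have hhalf := half hp hp3 y hyp hy1 hygen σ hσinj hσirr
  set C := fixSub σ y with hC
  have hsurj : ∀ m : Additive M, ∃ c₁ ∈ C, ∃ c₂ ∈ C,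
      m = σ (θ.rangeRestrict ⟨a⁻¹, A.inv_mem haA⟩) c₁ + c₂ := by
    intro m
    obtain ⟨v, hv⟩ := QuotientGroup.mk_surjective (Additive.toMul m)
    obtain ⟨c₁, hc₁, c₂, hc₂, h1, h2, heq⟩ := hcov v v.2
    refine ⟨Additive.ofMul (QuotientGroup.mk (⟨c₁, hc₁⟩ : V)), ?_,
      Additive.ofMul (QuotientGroup.mk (⟨c₂, hc₂⟩ : V)), ?_, ?_⟩
    · rw [hC, mem_fixSub]
      exact congrArg Additive.ofMul ((hfix ⟨c₁, hc₁⟩).2 h1)
    · rw [hC, mem_fixSub]
      exact congrArg Additive.ofMul ((hfix ⟨c₂, hc₂⟩).2 h2)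
    · apply Additive.toMul.injective
      rw [← hv]
      change _ = θ ⟨a⁻¹, A.inv_mem haA⟩ (QuotientGroup.mk (⟨c₁, hc₁⟩ : V)) * QuotientGroup.mk (⟨c₂, hc₂⟩ : V)
      have hm : a⁻¹ * c₁ * (a⁻¹)⁻¹ ∈ V := (Subgroup.mem_normalizer_iff.1 (hV (A.inv_mem haA)) _).1 hc₁
      rw [hφ ⟨a⁻¹, A.inv_mem haA⟩ ⟨c₁, hc₁⟩ hm, ← QuotientGroup.mk_mul]
      exact congrArg QuotientGroup.mk (Subtype.ext (by simpa using heq))
  have hcard : Nat.card (Additive M) ≤ Nat.card C * Nat.card C := by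
    rw [← Nat.card_prod]
    refine Nat.card_le_card_of_surjective
      (fun c : C × C => σ (θ.rangeRestrict ⟨a⁻¹, A.inv_mem haA⟩) c.1 + c.2) fun m => ?_
    obtain ⟨c₁, h1, c₂, h2, h⟩ := hsurj m
    exact ⟨(⟨c₁, h1⟩, ⟨c₂, h2⟩), h.symm⟩
  rw [Module.natCard_eq_pow_finrank (K := ZMod s), Module.natCard_eq_pow_finrank (K := ZMod s) (V := C),
    ← pow_add, Nat.card_zmod] at hcard
  have := (Nat.pow_le_pow_iff_right (Fact.out : s.Prime).one_lt).1 hcard
  omega

/-- An element centralised modulo `U` by a commutator. -/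
theorem commutator_mul_mem {U : Subgroup G} {v w x : G} (h : ∀ u ∈ U, v * u * v⁻¹ ∈ U)
    (h1 : v * x * v⁻¹ * x⁻¹ ∈ U) (h2 : w * x * w⁻¹ * x⁻¹ ∈ U) : v * w * x * (v * w)⁻¹ * x⁻¹ ∈ U := by
  have := U.mul_mem (h _ h2) h1
  simpa [mul_assoc] using this

/-- The key step: the `r`-core of `A` centralises every `s`-group normalised by `A`. -/
theorem le_centralizer_of_maximal {p r s : ℕ} (hp : p.Prime) (hp3 : 3 < p) [Fact r.Prime] [Fact s.Prime]
    (hrs : r ≠ s) (P A : Subgroup G) (hP : Nat.card P = p) (hAs : Group.IsSolvable A) (a : G) (haA : a ∈ A)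
    (hA : A = P ⊔ P.map (MulAut.conj a).toMonoidHom)
    (hmax : ∀ B : Subgroup G, A ≤ B → Group.IsSolvable B →
      (∃ b ∈ B, B = P ⊔ P.map (MulAut.conj b).toMonoidHom) → B = A)
    (X : Subgroup G) (hXA : X ≤ A) (hAX : A ≤ Subgroup.normalizer (X : Set G)) (hX : IsPGroup r X) :
    ∀ V : Subgroup G, IsPGroup s V → A ≤ Subgroup.normalizer (V : Set G) →
      X ≤ Subgroup.centralizer (V : Set G) := by
  classical
  haveI : Fact p.Prime := ⟨hp⟩
  haveI := hAs
  intro V
  induction hm : Nat.card V using Nat.strong_induction_on generalizing V with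
  | _ m ihm =>
  intro hVs hAV
  have ih : ∀ W : Subgroup G, W < V → A ≤ Subgroup.normalizer (W : Set G) →
      X ≤ Subgroup.centralizer (W : Set G) := fun W hW hAW =>
    ihm _ (hm ▸ Core.card_lt_of_lt hW) W rfl (hVs.to_le hW.le) hAW
  by_contra hcon
  have hXs : Group.IsSolvable X := Layer.isSolvable_of_isPGroup hX
  have hcop : (Nat.card X).Coprime (Nat.card V) := IsPGroup.coprime_card_of_ne r s hrs X V hX hVs
  have hcomAX : ∀ W : Subgroup G, W ≤ A → W ≤ V → A ≤ Subgroup.normalizer (W : Set G) →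
      X ≤ Subgroup.centralizer (W : Set G) := by
    intro W hWA hWV hAW
    rw [← Subgroup.commutator_eq_bot_iff_le_centralizer, ← le_bot_iff,
      ← Coprime.inf_eq_bot_of_coprime (hcop.coprime_dvd_right (Subgroup.card_dvd_of_le hWV))]
    exact le_inf (Subgroup.le_normalizer_iff_commutator_le_left.1 (hWA.trans hAX))
      (Subgroup.le_normalizer_iff_commutator_le_right.1 (hXA.trans hAW))
  have hVA : ¬ V ≤ A := fun h => hcon (hcomAX V h le_rfl hAV)
  have hXV : X ≤ Subgroup.normalizer (V : Set G) := hXA.trans hAV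
  -- the Frattini subgroup and a maximal invariant subgroup
  set D := (frattini V).map V.subtype with hD
  have hAD : A ≤ Subgroup.normalizer (D : Set G) :=
    Coprime.le_normalizer_map_of_characteristic hAV _ inferInstance
  have hDV : D ≤ V := Subgroup.map_subtype_le _
  have hVbot : V ≠ ⊥ := fun h => hVA (h ▸ bot_le)
  have hDne : D ≠ V := by
    intro h
    haveI : Nontrivial V := (Subgroup.nontrivial_iff_ne_bot V).2 hVbot
    have htop : frattini V = ⊤ := Subgroup.map_injective V.subtype_injective (by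
      rw [← hD, h, ← MonoidHom.range_eq_map, Subgroup.range_subtype])
    exact bot_ne_top (Core.eq_top_of_sup_frattini (K := ⊥) le_rfl (by rw [bot_sup_eq, htop]))
  obtain ⟨U, ⟨hDU, hUlt, hAU⟩, hUmax⟩ := (Set.toFinite {W : Subgroup G | D ≤ W ∧ W < V ∧
      A ≤ Subgroup.normalizer (W : Set G)}).exists_maximal ⟨D, le_rfl, lt_of_le_of_ne hDV hDne, hAD⟩
  have hUmax' : ∀ W : Subgroup G, U ≤ W → W ≤ V → A ≤ Subgroup.normalizer (W : Set G) → W = U ∨ W = V :=
    fun W h1 h2 h3 => or_iff_not_imp_right.2 fun hne =>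
      le_antisymm (hUmax ⟨hDU.trans h1, lt_of_le_of_ne h2 hne, h3⟩ h1) h1
  have hUV := hUlt.le
  haveI hVnil : Group.IsNilpotent V := hVs.isNilpotent
  have hcommD : ∀ v ∈ V, ∀ w ∈ V, v * w * v⁻¹ * w⁻¹ ∈ D := fun v hv w hw =>
    ⟨⁅(⟨v, hv⟩ : V), ⟨w, hw⟩⁆, Core.commutator_le_frattini
      (Subgroup.commutator_mem_commutator (Subgroup.mem_top _) (Subgroup.mem_top _)), rfl⟩
  have hpow : ∀ v ∈ V, v ^ s ∈ U := fun v hv =>
    hDU ⟨(⟨v, hv⟩ : V) ^ s, Core.pow_mem_frattini hVs _, rfl⟩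
  have hVN : ∀ W : Subgroup G, D ≤ W → W ≤ V → V ≤ Subgroup.normalizer (W : Set G) := fun W h1 h2 =>
    Subgroup.le_normalizer_iff.2 fun v hv w hw => by
      have := W.mul_mem (h1 (hcommD v hv w (h2 hw))) hw
      simpa using this
  have hVU := hVN U hDU hUV
  have hXU : X ≤ Subgroup.centralizer (U : Set G) := ih U hUlt hAU
  have hVcomm : ∀ W : Subgroup G, W ≤ V → X ≤ Subgroup.centralizer (W : Set G) →
      ∀ W' : Subgroup G, X ≤ Subgroup.centralizer (W' : Set G) → W ⊔ W' = V → False := by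
    intro W _ h1 W' h2 h3
    apply hcon
    rw [← h3, Subgroup.le_centralizer_iff]
    exact sup_le (Subgroup.le_centralizer_iff.1 h1) (Subgroup.le_centralizer_iff.1 h2)
  -- no fixed points of X modulo U
  have hW0 : ∀ v ∈ V, (∀ x ∈ X, v * x * v⁻¹ * x⁻¹ ∈ U) → v ∈ U := by
    have hconjU : ∀ v ∈ V, ∀ u ∈ U, v * u * v⁻¹ ∈ U := fun v hv => Subgroup.le_normalizer_iff.1 hVU v hv
    let W : Subgroup G :=
      { carrier := {v | v ∈ V ∧ ∀ x ∈ X, v * x * v⁻¹ * x⁻¹ ∈ U}
        one_mem' := ⟨V.one_mem, fun x _ => by simp⟩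
        mul_mem' := fun {v w} hv hw => ⟨V.mul_mem hv.1 hw.1, fun x hx =>
          commutator_mul_mem (hconjU v hv.1) (hv.2 x hx) (hw.2 x hx)⟩
        inv_mem' := fun {v} hv => ⟨V.inv_mem hv.1, fun x hx => by
          have := U.inv_mem (hconjU _ (V.inv_mem hv.1) _ (hv.2 x hx))
          simpa [mul_assoc] using this⟩ }
    have hUW : U ≤ W := fun u hu => ⟨hUV hu, fun x hx => by
      rw [Subgroup.mem_centralizer_iff.1 (hXU hx) u hu]
      simp⟩
    have hAW : A ≤ Subgroup.normalizer (W : Set G) := by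
      refine Subgroup.le_normalizer_iff.2 fun b hb v hv => ⟨(Subgroup.le_normalizer_iff.1 hAV) b hb v hv.1, fun x hx => ?_⟩
      have hx' := (Subgroup.le_normalizer_iff.1 hAX) b⁻¹ (A.inv_mem hb) x hx
      have := (Subgroup.le_normalizer_iff.1 hAU) b hb _ (hv.2 _ hx')
      simpa [mul_assoc] using this
    rcases hUmax' W hUW (fun v hv => hv.1) hAW with h | h
    · exact fun v hv hvx => h.le ⟨hv, hvx⟩
    · exfalso
      apply hcon
      rw [← Subgroup.commutator_eq_bot_iff_le_centralizer, Subgroup.commutator_comm]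
      have h1 : ⁅V, X⁆ ≤ U := Subgroup.commutator_le.2 fun v hv x hx => by
        rw [commutatorElement_def]
        exact (h.ge hv).2 x hx
      rw [← Coprime.commutator_commutator_eq hXV hcop (Or.inl hXs),
        Subgroup.commutator_eq_bot_iff_le_centralizer]
      exact h1.trans (Subgroup.le_centralizer_iff.1 hXU)
  -- A meets V inside U
  have hAUV : (A ⊔ U) ⊓ V ≤ U := by
    have hAV' : A ⊓ V ≤ U := by
      have hn1 : A ≤ Subgroup.normalizer ((A ⊓ V : Subgroup G) : Set G) :=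
        Subgroup.le_normalizer_iff.2 fun b hb w hw =>
          ⟨A.mul_mem (A.mul_mem hb hw.1) (A.inv_mem hb), (Subgroup.le_normalizer_iff.1 hAV) b hb w hw.2⟩
      have hn2 : A ≤ Subgroup.normalizer (((A ⊓ V) ⊔ U : Subgroup G) : Set G) :=
        (le_inf hn1 hAU).trans (Subgroup.normalizer_inf_normalizer_le_normalizer_sup _ _)
      rcases hUmax' ((A ⊓ V) ⊔ U) le_sup_right (sup_le inf_le_right hUV) hn2 with h | h
      · exact le_sup_left.trans h.le
      · exact (hVcomm _ inf_le_right (hcomAX _ inf_le_left inf_le_right hn1) U hXU h).elim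
    intro g hg
    have hg1 : g ∈ ((A ⊔ U : Subgroup G) : Set G) := hg.1
    rw [Subgroup.coe_mul_of_left_le_normalizer_right A U hAU] at hg1
    obtain ⟨b, hb, u, hu, rfl⟩ := hg1
    have : b ∈ A ⊓ V := ⟨hb, by simpa using V.mul_mem hg.2 (V.inv_mem (hUV hu))⟩
    exact U.mul_mem (hAV' this) hu
  obtain ⟨π, hπ⟩ := (Subgroup.isCyclic_iff_exists_zpowers_eq_top P).1 (isCyclic_of_prime_card hP)
  have hπP : π ∈ P := hπ ▸ Subgroup.mem_zpowers π
  have hπp : π ^ p = 1 := by
    have h := pow_card_eq_one' (G := P) (x := ⟨π, hπP⟩)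
    rw [hP] at h
    exact congrArg Subtype.val h
  have hπA : π ∈ A := hA ▸ Subgroup.mem_sup_left hπP
  have hgen : Subgroup.normalClosure {(⟨π, hπA⟩ : A)} = ⊤ := by
    set N := Subgroup.normalClosure {(⟨π, hπA⟩ : A)}
    have h1 : (⟨π, hπA⟩ : A) ∈ N := Subgroup.subset_normalClosure rfl
    have h2 : A ≤ N.map A.subtype := by
      have hPN : P ≤ N.map A.subtype := hπ ▸ (Subgroup.zpowers_le.2 ⟨_, h1, rfl⟩)
      conv_lhs => rw [hA]
      refine sup_le hPN ?_
      rintro _ ⟨w, hw, rfl⟩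
      obtain ⟨n, hn, rfl⟩ := hPN hw
      exact ⟨⟨a, haA⟩ * n * ⟨a, haA⟩⁻¹, Subgroup.normalClosure_normal.conj_mem n hn _, rfl⟩
    rw [eq_top_iff]
    intro b _
    obtain ⟨n, hn, hnb⟩ := h2 b.2
    rwa [Subtype.ext hnb] at hn
  have hact : ∃ v ∈ V, v * π * v⁻¹ * π⁻¹ ∉ U := by
    by_contra hall
    push Not at hall
    have hconjU : ∀ v ∈ V, ∀ u ∈ U, v * u * v⁻¹ ∈ U := fun v hv => Subgroup.le_normalizer_iff.1 hVU v hv
    let N : Subgroup A :=
      { carrier := {b | ∀ v ∈ V, v * (b : G) * v⁻¹ * (b : G)⁻¹ ∈ U}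
        one_mem' := fun v _ => by simp
        mul_mem' := fun {b c} hb hc v hv => by
          have h1 := (Subgroup.le_normalizer_iff.1 hAU) b b.2 _ (hc v hv)
          have h2 := U.mul_mem (hb v hv) h1
          simpa [mul_assoc] using h2
        inv_mem' := fun {b} hb v hv => by
          have h1 := (Subgroup.le_normalizer_iff.1 hAU) (b : G)⁻¹ (A.inv_mem b.2) _ (U.inv_mem (hb v hv))
          simpa [mul_assoc] using h1 }
    have hN : N.Normal := ⟨fun b hb c v hv => by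
      have hv' := (Subgroup.le_normalizer_iff.1 hAV) (c : G)⁻¹ (A.inv_mem c.2) v hv
      have h1 := (Subgroup.le_normalizer_iff.1 hAU) c c.2 _ (hb _ hv')
      simpa [mul_assoc] using h1⟩
    have hle : Subgroup.normalClosure {(⟨π, hπA⟩ : A)} ≤ N :=
      Subgroup.normalClosure_le_normal (by rw [Set.singleton_subset_iff]; exact hall)
    rw [hgen] at hle
    obtain ⟨v, hvV, hvU⟩ := SetLike.exists_of_lt hUlt
    exact hvU (hW0 v hvV fun x hx => hle (Subgroup.mem_top ⟨x, hXA hx⟩) v hvV)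
  refine not_covered hp hp3 A V U π a hπA haA hπp hgen hAV hAU hUV hUlt.ne
    (fun v hv w hw => hDU (hcommD v hv w hw)) hpow hact hUmax' ?_
  intro v hv
  -- the second generating pair
  set B := P ⊔ P.map (MulAut.conj (a * v)).toMonoidHom with hB
  have hPA : P ≤ A := hA ▸ le_sup_left
  have hBAV : B ≤ A ⊔ V := by
    refine sup_le (hPA.trans le_sup_left) ?_
    rintro _ ⟨w, hw, rfl⟩
    exact (A ⊔ V).mul_mem ((A ⊔ V).mul_mem ((A ⊔ V).mul_mem (Subgroup.mem_sup_left haA) (Subgroup.mem_sup_right hv))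
      (Subgroup.mem_sup_left (hPA hw))) ((A ⊔ V).inv_mem ((A ⊔ V).mul_mem (Subgroup.mem_sup_left haA) (Subgroup.mem_sup_right hv)))
  have hABV : A ≤ B ⊔ V := by
    conv_lhs => rw [hA]
    refine sup_le (le_sup_left.trans le_sup_left) ?_
    rintro _ ⟨w, hw, rfl⟩
    change a * w * a⁻¹ ∈ B ⊔ V
    have h1 : (a * v) * w * (a * v)⁻¹ ∈ B ⊔ V := Subgroup.mem_sup_left (Subgroup.mem_sup_right ⟨w, hw, rfl⟩)
    have h2 : a * (v * (w * v⁻¹ * w⁻¹)) * a⁻¹ ∈ V :=
      (Subgroup.le_normalizer_iff.1 hAV) a haA _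
        (V.mul_mem hv ((Subgroup.le_normalizer_iff.1 hAV) w (hPA hw) _ (V.inv_mem hv)))
    have h3 := (B ⊔ V).mul_mem ((B ⊔ V).inv_mem (Subgroup.mem_sup_right h2)) h1
    simpa [mul_assoc] using h3
  have hBn : ∀ W : Subgroup G, A ≤ Subgroup.normalizer (W : Set G) → V ≤ Subgroup.normalizer (W : Set G) →
      B ≤ Subgroup.normalizer (W : Set G) := fun W h1 h2 => hBAV.trans (sup_le h1 h2)
  have hBU := hBn U hAU hVU
  have hBV := hBn V hAV Subgroup.le_normalizer
  set L := B ⊔ U with hL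
  have hLn : L ≤ Subgroup.normalizer ((L ⊓ V : Subgroup G) : Set G) :=
    Subgroup.le_normalizer_iff.2 fun b hb w hw =>
      ⟨L.mul_mem (L.mul_mem hb hw.1) (L.inv_mem hb),
        (Subgroup.le_normalizer_iff.1 (sup_le hBV (hUV.trans Subgroup.le_normalizer) : L ≤ _)) b hb w hw.2⟩
  have hLVU : L ⊓ V = U := by
    have hUL : U ≤ L ⊓ V := le_inf le_sup_right hUV
    have hAL : A ≤ Subgroup.normalizer ((L ⊓ V : Subgroup G) : Set G) :=
      hABV.trans (sup_le (le_sup_left.trans hLn) (hVN _ (hDU.trans hUL) inf_le_right))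
    refine (hUmax' _ hUL inf_le_right hAL).resolve_right fun hV' => ?_
    have hVL : V ≤ L := hV' ▸ inf_le_left
    set M := (B ⊓ V) ⊔ D with hMd
    have hMV : M ≤ V := sup_le inf_le_right hDV
    have hBM : B ≤ Subgroup.normalizer (M : Set G) := by
      refine (le_inf ?_ (hBn D hAD (hVN D le_rfl hDV))).trans (Subgroup.normalizer_inf_normalizer_le_normalizer_sup _ _)
      exact Subgroup.le_normalizer_iff.2 fun b hb w hw =>
        ⟨B.mul_mem (B.mul_mem hb hw.1) (B.inv_mem hb), (Subgroup.le_normalizer_iff.1 hBV) b hb w hw.2⟩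
    have hAM : A ≤ Subgroup.normalizer (M : Set G) :=
      hABV.trans (sup_le hBM (hVN M le_sup_right hMV))
    by_cases hMe : M = V
    · have hle : V ≤ B := by
        have h1 : (B ⊓ V).subgroupOf V ⊔ frattini V = ⊤ := by
          apply Subgroup.map_injective V.subtype_injective
          rw [Subgroup.map_sup, Subgroup.map_subgroupOf_eq_of_le inf_le_right, ← hD, ← hMd, hMe,
            ← MonoidHom.range_eq_map, Subgroup.range_subtype]
        have h2 := Core.eq_top_of_sup_frattini le_rfl h1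
        intro w hw
        exact ((h2.ge (Subgroup.mem_top ⟨w, hw⟩) : w ∈ B ⊓ V)).1
      have hAB : A ≤ B := hABV.trans (sup_le le_rfl hle)
      have hBs : Group.IsSolvable B := by
        refine Core.isSolvable_mono ?_ hBAV
        exact Layer.isSolvable_sup hAV hAs (Layer.isSolvable_of_isPGroup hVs)
      have := hmax B hAB hBs ⟨a * v, B.mul_mem (hAB haA) (hle hv), rfl⟩
      exact hVA (this ▸ hle)
    · refine hVcomm _ hMV (ih M (lt_of_le_of_ne hMV hMe) hAM) U hXU (le_antisymm (sup_le hMV hUV) ?_)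
      intro w hw
      have h1 : w ∈ (L : Set G) := hVL hw
      rw [hL, Subgroup.coe_mul_of_left_le_normalizer_right B U hBU] at h1
      obtain ⟨b, hb, u, hu, rfl⟩ := h1
      refine Subgroup.mul_mem_sup (Subgroup.mem_sup_left ⟨hb, ?_⟩) hu
      simpa using V.mul_mem hw (V.inv_mem (hUV hu))
  -- move X into L
  have hS : V ⊔ ((X ⊔ V) ⊓ L) = V ⊔ X := by
    refine le_antisymm (sup_le le_sup_left (inf_le_left.trans (sup_comm X V).le)) (sup_le le_sup_left ?_)
    intro x hx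
    have h1 : x ∈ ((L ⊔ V : Subgroup G) : Set G) :=
      (sup_le (le_sup_left.trans le_sup_left) le_sup_right : B ⊔ V ≤ L ⊔ V) (hABV (hXA hx))
    rw [Subgroup.coe_mul_of_left_le_normalizer_right L V (sup_le hBV (hUV.trans Subgroup.le_normalizer))] at h1
    obtain ⟨l, hl, w, hw, rfl⟩ := h1
    have hlX : l ∈ X ⊔ V := by
      have := (X ⊔ V).mul_mem (Subgroup.mem_sup_left hx) ((X ⊔ V).inv_mem (Subgroup.mem_sup_right hw))
      simpa using this
    rw [sup_comm]
    exact Subgroup.mul_mem_sup ⟨hlX, hl⟩ hw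
  obtain ⟨B', hB'L, hB'c⟩ := Coprime.exists_le_card_eq hXV hcop hS
  obtain ⟨k, hkV, hk⟩ := Coprime.exists_conj_eq hXV hcop (Or.inl hXs)
    (hB'L.trans (inf_le_left.trans (sup_comm X V).le)) hB'c
  have hk' : ∀ x ∈ X, k⁻¹ * x * k ∈ L := fun x hx => by
    rw [← hk, Coprime.conj_smul_eq_map] at hx
    obtain ⟨y, hy, rfl⟩ := hx
    simpa [mul_assoc] using (hB'L hy).2
  -- the conjugate of L lies in A U
  have hLAU : ∀ l ∈ L, k * l * k⁻¹ ∈ A ⊔ U := by
    intro l hl
    have hkl : k * l * k⁻¹ ∈ A ⊔ V :=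
      (A ⊔ V).mul_mem ((A ⊔ V).mul_mem (Subgroup.mem_sup_right hkV)
        ((sup_le hBAV (hUV.trans le_sup_right) : L ≤ A ⊔ V) hl)) ((A ⊔ V).inv_mem (Subgroup.mem_sup_right hkV))
    have h1 : k * l * k⁻¹ ∈ ((A ⊔ V : Subgroup G) : Set G) := hkl
    rw [Subgroup.coe_mul_of_left_le_normalizer_right A V hAV] at h1
    obtain ⟨b, hb, w, hw, hbw⟩ := h1
    change b * w = k * l * k⁻¹ at hbw
    suffices hwU : w ∈ U by rw [← hbw]; exact Subgroup.mul_mem_sup hb hwU
    refine hW0 w hw fun x hx => ?_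
    have hwV : w * x * w⁻¹ * x⁻¹ ∈ V := by
      have := V.mul_mem hw ((Subgroup.le_normalizer_iff.1 hXV) x hx _ (V.inv_mem hw))
      simpa [mul_assoc] using this
    -- conjugate into L
    set x' := b * x * b⁻¹ with hx'd
    have hx' : x' ∈ X := (Subgroup.le_normalizer_iff.1 hAX) b hb x hx
    have e1 : k⁻¹ * (k * l * k⁻¹ * x * (k * l * k⁻¹)⁻¹) * k ∈ L := by
      have := L.mul_mem (L.mul_mem hl (hk' x hx)) (L.inv_mem hl)
      simpa [mul_assoc] using this
    rw [← hbw] at e1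
    have e2 := L.mul_mem e1 (L.inv_mem (hk' x' hx'))
    have e3 : k⁻¹ * (b * (w * x * w⁻¹ * x⁻¹) * b⁻¹) * k ∈ L := by
      rw [hx'd] at e2
      simpa [mul_assoc] using e2
    have e4 : k⁻¹ * (b * (w * x * w⁻¹ * x⁻¹) * b⁻¹) * k ∈ V :=
      V.mul_mem (V.mul_mem (V.inv_mem hkV) ((Subgroup.le_normalizer_iff.1 hAV) b hb _ hwV)) hkV
    have e5 : k⁻¹ * (b * (w * x * w⁻¹ * x⁻¹) * b⁻¹) * k ∈ U := hLVU ▸ ⟨e3, e4⟩
    have e6 := (Subgroup.le_normalizer_iff.1 hAU) b⁻¹ (A.inv_mem hb) _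
      ((Subgroup.le_normalizer_iff.1 hVU) k hkV _ e5)
    simpa [mul_assoc] using e6
  have hfixed : ∀ w ∈ V, w * π * w⁻¹ ∈ A ⊔ U → w * π * w⁻¹ * π⁻¹ ∈ U := fun w hw h => hAUV
    ⟨(A ⊔ U).mul_mem h ((A ⊔ U).inv_mem (Subgroup.mem_sup_left hπA)), by
      have := V.mul_mem hw ((Subgroup.le_normalizer_iff.1 hAV) π hπA _ (V.inv_mem hw))
      simpa [mul_assoc] using this⟩
  have hc1 : k * π * k⁻¹ * π⁻¹ ∈ U :=
    hfixed k hkV (hLAU π (Subgroup.mem_sup_left (Subgroup.mem_sup_left hπP)))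
  have hu : a⁻¹ * k * a * v ∈ V := V.mul_mem (by
    simpa using (Subgroup.le_normalizer_iff.1 hAV) a⁻¹ (A.inv_mem haA) k hkV) hv
  have hc2 : (a⁻¹ * k * a * v) * π * (a⁻¹ * k * a * v)⁻¹ * π⁻¹ ∈ U := by
    refine hfixed _ hu ?_
    have h1 : k * ((a * v) * π * (a * v)⁻¹) * k⁻¹ ∈ A ⊔ U :=
      hLAU _ (Subgroup.mem_sup_left (Subgroup.mem_sup_right ⟨π, hπP, rfl⟩))
    have ha' : a ∈ A ⊔ U := Subgroup.mem_sup_left haA
    have h2 := (A ⊔ U).mul_mem ((A ⊔ U).mul_mem ((A ⊔ U).inv_mem ha') h1) ha'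
    simpa [mul_assoc] using h2
  have hki : k⁻¹ * π * k * π⁻¹ ∈ U := by
    have := U.inv_mem ((Subgroup.le_normalizer_iff.1 hVU) k⁻¹ (V.inv_mem hkV) _ hc1)
    simpa [mul_assoc] using this
  exact ⟨k⁻¹, V.inv_mem hkV, a⁻¹ * k * a * v, hu, by simpa using hki, hc2, by simp [mul_assoc]⟩

end Cfsg.Agent.FixedHalf
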